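import Mathlib
import Groth.Agent.LimitMod.Modules
import Groth.Agent.PicAux.Pullback

/-!
# Vanishing of the pullback of a homomorphism of modules
-/

set_option autoImplicit false
universe u

open CategoryTheory CategoryTheory.Limits AlgebraicGeometry Opposite TopologicalSpace

noncomputable section

namespace Groth.VanishLib

open Groth.PicAux (res res_res res_self res_ext app_res res_zero pullSec)

variable {X Y Z : Scheme.{u}} {G F : X.Modules}

/-- The pullback of `σ` along `p` vanishes. -/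
abbrev Vanish (p : Y ⟶ X) (σ : G ⟶ F) : Prop := (Scheme.Modules.pullback p).map σ = 0

theorem vanish_map_iff (a : Y ⟶ X) (q : Z ⟶ Y) (σ : G ⟶ F) :
    Vanish q ((Scheme.Modules.pullback a).map σ) ↔ Vanish (q ≫ a) σ :=
  Groth.LimitMod.map_comp_eq_zero_iff a (q ≫ a) q rfl σ

theorem Vanish.comp {p : Y ⟶ X} {σ : G ⟶ F} (h : Vanish p σ) (r : Z ⟶ Y) : Vanish (r ≫ p) σ :=
  (vanish_map_iff p r σ).1 (by rw [Vanish, h, Functor.map_zero])

theorem vanish_iso_comp_iff (r : Z ⟶ Y) [IsIso r] (p : Y ⟶ X) (σ : G ⟶ F) : Vanish (r ≫ p) σ ↔ Vanish p σ :=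
  ⟨fun h => by simpa using h.comp (inv r), fun h => h.comp r⟩

theorem vanish_ι_iff (O : X.Opens) (σ : G ⟶ F) :
    Vanish O.ι σ ↔ ∀ V : X.Opens, V ≤ O → ∀ x : Γ(G, V), σ.app V x = 0 := by
  have h : Vanish O.ι σ ↔ (Scheme.Modules.restrictFunctor O.ι).map σ = 0 := by
    let η := Scheme.Modules.restrictFunctorIsoPullback O.ι
    constructor
    · intro h
      rw [← cancel_mono (η.hom.app F), η.hom.naturality, show (Scheme.Modules.pullback O.ι).map σ = 0 from h,
        comp_zero, zero_comp]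
    · intro h
      rw [Vanish, ← cancel_epi (η.hom.app G), ← η.hom.naturality, h, comp_zero, zero_comp]
  rw [h]
  constructor
  · intro h V hV x
    have hV' : O.ι ''ᵁ (O.ι ⁻¹ᵁ V) = V := by
      rw [Scheme.Hom.image_preimage_eq_opensRange_inf, Scheme.Opens.opensRange_ι, inf_eq_right.2 hV]
    have key : ∀ (V' : X.Opens) (_ : V' = V) , (∀ y : Γ(G, V'), σ.app V' y = 0) → σ.app V x = 0 := by
      rintro V' rfl hy; exact hy x
    exact key _ hV' fun y => congr(($h).app (O.ι ⁻¹ᵁ V) y)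
  · intro h
    ext W x
    exact h _ (Scheme.Opens.ι_image_le O W) x

/-- A homomorphism vanishes if it does so on a cover. -/
theorem eq_zero_of_cover {ι : Type*} (U : ι → X.Opens) (hU : iSup U = ⊤) (σ : G ⟶ F)
    (h : ∀ i (V : X.Opens), V ≤ U i → ∀ x : Γ(G, V), σ.app V x = 0) : σ = 0 :=
  Groth.PicAux.hom_ext_cover hU fun i V hV x => h i V hV x

theorem eq_zero_of_vanish_ι {ι : Type*} (U : ι → X.Opens) (hU : iSup U = ⊤) (σ : G ⟶ F)
    (h : ∀ i, Vanish (U i).ι σ) : σ = 0 :=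
  eq_zero_of_cover U hU σ fun i V hV x => (vanish_ι_iff (U i) σ).1 (h i) V hV x

theorem vanish_of_cover {ι : Type*} (U : ι → Y.Opens) (hU : iSup U = ⊤) (p : Y ⟶ X) (σ : G ⟶ F)
    (h : ∀ i, Vanish ((U i).ι ≫ p) σ) : Vanish p σ :=
  eq_zero_of_vanish_ι U hU _ fun i => (vanish_map_iff p (U i).ι σ).2 (h i)

/-- The pullback of `σ` along `m` may be computed on isomorphic modules. -/
theorem vanish_conj_iff {G' F' : X.Modules} (eG : G' ≅ G) (eF : F' ≅ F) (σ : G ⟶ F) (p : Y ⟶ X) :
    Vanish p (eG.hom ≫ σ ≫ eF.inv) ↔ Vanish p σ := by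
  unfold Vanish
  rw [Functor.map_comp, Functor.map_comp]
  exact ⟨fun h => by
    rwa [← cancel_epi ((Scheme.Modules.pullback p).map eG.hom), comp_zero,
      ← cancel_mono ((Scheme.Modules.pullback p).map eF.inv), zero_comp, Category.assoc],
    fun h => by rw [h, zero_comp, comp_zero]⟩

end Groth.VanishLib
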