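import Mathlib
import Groth.Agent.RaynaudGruson.ContentGlue

/-!
# Gluing of contents

Variants of the statements of `RaynaudGruson/ContentGlue.lean` (from which the proofs are taken) where
the existence of the contents at each prime is assumed in place of freeness of the localisations.
-/

set_option autoImplicit false
universe u

namespace Groth.VanishLib

open TensorProduct Groth.RaynaudGruson

variable {R M : Type u} [CommRing R] [AddCommGroup M] [Module R M] {n : ℕ}

theorem exists_min_nhd_of_exists [IsNoetherianRing R] [Module.Flat R M] {p : Ideal R} [p.IsPrime]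
    (hgen : ∃ f ∉ p, Module.Free (Localization.Away (Ideal.Quotient.mk p f))
      (LocalizedModule (Submonoid.powers (Ideal.Quotient.mk p f)) (M ⧸ (p • ⊤ : Submodule R M))))
    {x : Fin n → M} (hex : ∀ (q : Ideal R) [q.IsPrime], ∃ G : Submodule R (Fin n → R), Min q G x) {r : ℕ} {e : Fin r → Fin n → R} (hmin : Min p (Submodule.span R (Set.range e)) x)
    (hr : ∀ r' < r, ∀ e' : Fin r' → Fin n → R, ¬ Min p (Submodule.span R (Set.range e')) x) :
    ∃ g ∉ p, ∀ (q : Ideal R) [q.IsPrime], p ≤ q → g ∉ q → Min q (Submodule.span R (Set.range e)) x := by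
  classical
  set F := Submodule.span R (Set.range e)
  obtain ⟨f, hf, hffree⟩ := hgen
  obtain ⟨⟨s₀, hs₀, hs₀x⟩, hminF⟩ := hmin
  let eF : Fin r → F := fun j => ⟨e j, Submodule.subset_span ⟨j, rfl⟩⟩
  have heF : Submodule.span R (Set.range eF) = ⊤ := by
    apply Submodule.map_injective_of_injective F.injective_subtype
    rw [Submodule.map_span, Submodule.map_top, Submodule.range_subtype, ← Set.range_comp]
    rfl
  obtain ⟨m, hm⟩ := exists_repr eF heF hs₀x
  have hm' : s₀ • x = ∑ j, sv (e j) (m j) := by rw [← hm, map_sum]; rfl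
  let B := R ⧸ p
  let f' : B := Ideal.Quotient.mk p f
  let A := Localization.Away f'
  let Mf := LocalizedModule (Submonoid.powers f') (M ⧸ (p • ⊤ : Submodule R M))
  let mkf := LocalizedModule.mkLinearMap (Submonoid.powers f') (M ⧸ (p • ⊤ : Submodule R M))
  have hf' : f' ≠ 0 := fun h => hf (Ideal.Quotient.eq_zero_iff_mem.mp h)
  haveI : IsDomain A := IsLocalization.isDomain_localization
    (powers_le_nonZeroDivisors_of_noZeroDivisors hf')
  let b := @Module.Free.chooseBasis A Mf _ _ _ hffree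
  let v : Fin r → Mf := fun j => mkf (Submodule.Quotient.mk (m j))
  have hv : ∀ c : Fin r → A, ∑ j, c j • v j = 0 → ∀ j, c j = 0 := fun c hc => by
    obtain ⟨u, hu⟩ := IsLocalization.exist_integer_multiples_of_finite (Submonoid.powers f') c
    choose a ha using hu
    choose α hα using fun j => Ideal.Quotient.mk_surjective (a j)
    have h0 : mkf (∑ j, a j • (Submodule.Quotient.mk (m j) : M ⧸ (p • ⊤ : Submodule R M))) = 0 := by
      rw [map_sum]
      have : ∀ j, mkf (a j • Submodule.Quotient.mk (m j)) = (u : B) • (c j • v j) := fun j => by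
        rw [map_smul, ← algebraMap_smul A (a j), ← smul_assoc (u : B) (c j)]
        exact congrArg (fun z : A => z • v j) (ha j)
      simp only [this, ← Finset.smul_sum, hc, smul_zero]
    obtain ⟨⟨_, k, rfl⟩, hk⟩ := (IsLocalizedModule.eq_zero_iff (Submonoid.powers f') mkf).mp h0
    have hmemp : ∑ j, (f ^ k * α j) • m j ∈ (p • ⊤ : Submodule R M) := by
      rw [← Submodule.Quotient.mk_eq_zero, ← Submodule.mkQ_apply, map_sum]
      simp only [Submonoid.mk_smul, Finset.smul_sum] at hk
      rw [← hk]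
      refine Finset.sum_congr rfl fun j _ => ?_
      rw [map_smul, ← hα j, mul_smul, ← algebraMap_smul B (f ^ k), ← algebraMap_smul B (α j),
        Ideal.Quotient.algebraMap_eq, map_pow]
      rfl
    intro j
    have hαp : α j ∈ p := (‹p.IsPrime›.mem_or_mem
      (coeff_mem_of_relation ⟨⟨s₀, hs₀, hs₀x⟩, hminF⟩ hr hs₀ hm' hmemp j)).resolve_left
        fun h => hf (‹p.IsPrime›.mem_of_pow_mem k h)
    have hua : (u : B) • c j = 0 := by
      rw [← ha j, ← hα j, Ideal.Quotient.eq_zero_iff_mem.mpr hαp, map_zero]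
    rw [Algebra.smul_def] at hua
    exact (mul_eq_zero.mp hua).resolve_left (IsLocalization.map_units A u).ne_zero
  let T := Finset.univ.biUnion fun j => (b.repr (v j)).support
  let K := FractionRing A
  let w : Fin r → (T → K) := fun j t => algebraMap A K (b.repr (v j) t.1)
  have hw : LinearIndependent K w := by
    refine (LinearIndependent.iff_fractionRing A K).mp (Fintype.linearIndependent_iff.mpr fun c hc => hv c ?_)
    apply b.repr.injective
    rw [map_sum, map_zero]
    ext t
    rw [Finsupp.coe_zero, Pi.zero_apply, Finsupp.finset_sum_apply]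
    by_cases ht : t ∈ T
    · refine IsFractionRing.injective A K ?_
      have := congrFun hc ⟨t, ht⟩
      simpa [w, Finset.sum_apply, Algebra.smul_def, map_sum] using this
    · refine Finset.sum_eq_zero fun j _ => ?_
      have : b.repr (v j) t = 0 := by
        by_contra h0
        exact ht (Finset.mem_biUnion.mpr ⟨j, Finset.mem_univ j, Finsupp.mem_support_iff.mpr h0⟩)
      simp [this]
  obtain ⟨l, hl⟩ := LinearMap.exists_leftInverse_of_injective (Fintype.linearCombination K w)
    (LinearMap.ker_eq_bot.mpr hw.fintypeLinearCombination_injective)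
  obtain ⟨d, hd⟩ := IsLocalization.exist_integer_multiples_of_finite (nonZeroDivisors A)
    (fun it : Fin r × T => l (Pi.single it.2 1) it.1)
  choose N hN using fun (i : Fin r) (t : T) => hd (i, t)
  let μ : Fin r → (Mf →ₗ[A] A) := fun i => ∑ t : T, N i t • b.coord t.1
  have hμ : ∀ i j, μ i (v j) = if i = j then (d : A) else 0 := fun i j => by
    apply IsFractionRing.injective A K
    have h1 : l (w j) = Pi.single j 1 := by
      have := LinearMap.congr_fun hl (Pi.single j 1)
      simpa [Fintype.linearCombination_apply_single] using this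
    have h2 : w j = ∑ t : T, w j t • (Pi.single t (1 : K) : T → K) := by
      conv_lhs => rw [← Finset.univ_sum_single (w j)]
      exact Finset.sum_congr rfl fun t _ => by ext t'; simp [Pi.single_apply]
    have h3 : ∑ t : T, algebraMap A K (N i t) * w j t = algebraMap A K d * l (w j) i := by
      conv_rhs => rw [h2, map_sum, Finset.sum_apply, Finset.mul_sum]
      refine Finset.sum_congr rfl fun t _ => ?_
      rw [map_smul, Pi.smul_apply, smul_eq_mul]
      have hN' : algebraMap A K (N i t) = algebraMap A K d * l (Pi.single t 1) i := by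
        have h := hN i t
        rw [Algebra.smul_def] at h
        exact h
      rw [hN']
      ring
    simp only [μ, LinearMap.sum_apply, LinearMap.smul_apply, map_sum, smul_eq_mul, map_mul]
    rw [show (∑ t : T, algebraMap A K (N i t) * algebraMap A K (b.coord t.1 (v j))) =
      ∑ t : T, algebraMap A K (N i t) * w j t from rfl, h3, h1, Pi.single_apply]
    split_ifs <;> simp
  obtain ⟨⟨δ, ⟨_, k, rfl⟩⟩, hδ⟩ := IsLocalization.surj (Submonoid.powers f') (d : A)
  obtain ⟨δ, rfl⟩ := Ideal.Quotient.mk_surjective δ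
  have hδp : δ ∉ p := fun h => by
    rw [Ideal.Quotient.eq_zero_iff_mem.mpr h, map_zero] at hδ
    exact nonZeroDivisors.coe_ne_zero d
      ((mul_eq_zero.mp hδ).resolve_right (IsLocalization.map_units A (⟨f' ^ k, k, rfl⟩ : Submonoid.powers f')).ne_zero)
  refine ⟨f * δ * s₀, p.primeCompl.mul_mem (p.primeCompl.mul_mem hf hδp) hs₀, fun q hq hpq hg => ?_⟩
  have hfq : f ∉ q := fun h => hg (q.mul_mem_right _ (q.mul_mem_right _ h))
  have hδq : δ ∉ q := fun h => hg (q.mul_mem_right _ (q.mul_mem_left _ h))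
  have hsq : s₀ ∉ q := fun h => hg (q.mul_mem_left _ h)
  obtain ⟨G, hG⟩ := hex q
  obtain ⟨t, ht, htG⟩ := (hG.2 F ⟨s₀, hsq, hs₀x⟩).exists_uniform
  let G₂ := G.map (LinearMap.lsmul R (Fin n → R) t)
  have hG₂F : G₂ ≤ F := by rintro _ ⟨y, hy, rfl⟩; exact htG y hy
  refine ⟨⟨s₀, hsq, hs₀x⟩, fun G' hG' => Le.trans ?_ (hG.2 G' hG')⟩
  refine Le.trans ?_ (Le.of_le (show G₂ ≤ G by rintro _ ⟨y, hy, rfl⟩; exact G.smul_mem t hy))
  obtain ⟨⟨s, hs, hsx⟩, -⟩ := hG
  have hz : t • s • s₀ • x ∈ odot M G₂ := by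
    refine smul_mem_odot (fun y hy => Submodule.mem_map_of_mem (f := LinearMap.lsmul R (Fin n → R) t) hy) ?_
    rw [smul_comm]
    exact (odot M G).smul_mem s₀ hsx
  rw [← range_theta] at hz
  obtain ⟨z, hz⟩ := hz
  have hzeq : (Submodule.inclusion hG₂F).rTensor M z = (t * s) • ∑ j, eF j ⊗ₜ m j := by
    apply theta_injective F
    rw [map_smul, hm, mul_smul, ← hz]
    clear hz
    induction z with
    | zero => simp
    | tmul y a => rfl
    | add a b ha hb => simp only [map_add, ha, hb]
  refine le_of_functionals q F G₂ fun lam hlam => ?_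
  have h0 : (t * s) • ∑ j, lam (eF j) ⊗ₜ[R] m j = 0 := by
    have h := congrArg (lam.rTensor M) hzeq
    rw [← LinearMap.comp_apply, ← LinearMap.rTensor_comp,
      show lam ∘ₗ Submodule.inclusion hG₂F = 0 from LinearMap.ext fun y => hlam _ y.2,
      LinearMap.rTensor_zero, LinearMap.zero_apply, map_smul, map_sum] at h
    simpa using h.symm
  let κ := q.ResidueField
  let ρ : B →+* κ := Ideal.Quotient.lift p (algebraMap R κ) fun a ha => Ideal.algebraMap_residueField_eq_zero.mpr (hpq ha)
  have hρ : ∀ a : R, a ∉ q → ρ (Ideal.Quotient.mk p a) ≠ 0 := fun a ha h => ha (Ideal.algebraMap_residueField_eq_zero.mp h)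
  let φ : A →+* κ := IsLocalization.Away.lift f' (g := ρ) (isUnit_iff_ne_zero.mpr (hρ f hfq))
  have hφ : ∀ a : B, φ (algebraMap B A a) = ρ a := fun a => IsLocalization.Away.lift_eq f' _ a
  have hφd : φ d ≠ 0 := fun h => by
    have h2 := congrArg φ hδ
    rw [map_mul, h, zero_mul, hφ] at h2
    exact hρ δ hδq h2.symm
  have hts : algebraMap R κ (t * s) ≠ 0 := fun h =>
    q.primeCompl.mul_mem ht hs (Ideal.algebraMap_residueField_eq_zero.mp h)
  let ν : Fin r → (M →ₗ[R] κ) := fun i =>
    { toFun := fun y => φ (μ i (mkf (Submodule.Quotient.mk y)))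
      map_add' := fun a b => by simp only [Submodule.Quotient.mk_add, map_add]
      map_smul' := fun c y => by
        rw [RingHom.id_apply, Algebra.smul_def]
        have : μ i (mkf (Submodule.Quotient.mk (c • y))) =
            algebraMap B A (Ideal.Quotient.mk p c) * μ i (mkf (Submodule.Quotient.mk y)) := by
          rw [Submodule.Quotient.mk_smul, ← algebraMap_smul B c, map_smul, ← algebraMap_smul A (algebraMap R B c) (mkf (Submodule.Quotient.mk y)), map_smul, smul_eq_mul]
          rfl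
        rw [this, map_mul, hφ]
        rfl }
  have hj : ∀ i, lam (eF i) = 0 := fun i => by
    have h1 := congrArg (TensorProduct.lift ((LinearMap.mul R κ).compl₂ (ν i))) h0
    rw [map_smul, map_sum, map_zero] at h1
    simp only [TensorProduct.lift.tmul, LinearMap.compl₂_apply, LinearMap.mul_apply'] at h1
    rw [← algebraMap_smul κ (t * s), smul_eq_zero, or_iff_right hts] at h1
    have hνv : ∀ j, ν i (m j) = if i = j then φ d else 0 := fun j => by
      show φ (μ i (v j)) = _
      rw [hμ]; split_ifs <;> simp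
    simp only [hνv, mul_ite, mul_zero, Finset.sum_ite_eq, Finset.mem_univ, if_true] at h1
    exact (mul_eq_zero.mp h1).resolve_right hφd
  exact LinearMap.ext_on_range heF fun i => hj i

/-- Contents at all primes glue to a content. -/
theorem exists_content_of_exists_min [IsNoetherianRing R] [Module.Flat R M]
    (hgen : ∀ (p : Ideal R) [p.IsPrime], ∃ f ∉ p, Module.Free (Localization.Away (Ideal.Quotient.mk p f))
      (LocalizedModule (Submonoid.powers (Ideal.Quotient.mk p f)) (M ⧸ (p • ⊤ : Submodule R M))))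
    (x : Fin n → M) (hex : ∀ (q : Ideal R) [q.IsPrime], ∃ G : Submodule R (Fin n → R), Min q G x) :
    ∃ C : Submodule R (Fin n → R), x ∈ odot M C ∧ ∀ G, x ∈ odot M G → C ≤ G := by
  classical
  have hrank : ∀ (p : Ideal R) [p.IsPrime], ∃ (r : ℕ) (e : Fin r → Fin n → R),
      Min p (Submodule.span R (Set.range e)) x ∧
      ∀ r' < r, ∀ e' : Fin r' → Fin n → R, ¬ Min p (Submodule.span R (Set.range e')) x := fun p _ => by
    obtain ⟨F, hF⟩ := hex p
    have hFfg : F.FG := IsNoetherian.noetherian F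
    obtain ⟨r, e, he⟩ := Submodule.fg_iff_exists_fin_generating_family.mp hFfg
    have hex : ∃ r, ∃ e : Fin r → Fin n → R, Min p (Submodule.span R (Set.range e)) x := ⟨r, e, he ▸ hF⟩
    obtain ⟨e₀, he₀⟩ := Nat.find_spec hex
    exact ⟨_, e₀, he₀, fun r' hr' e' h => Nat.find_min hex hr' ⟨e', h⟩⟩
  have hnhd : ∀ (p : Ideal R) [p.IsPrime], ∃ f ∉ p, ∃ F : Submodule R (Fin n → R),
      ∀ (q : Ideal R) [q.IsPrime], f ∉ q → Min q F x := fun p hp => by
    obtain ⟨r, e, he, -⟩ := hrank p
    set F := Submodule.span R (Set.range e)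
    obtain ⟨f, hf, hfq⟩ := exists_basic_nhd (fun q _ => Min q F x)
      (fun p q hp hq hqp h => Min.generalize hqp h) (fun p₁ hp₁ h₁ => by
        obtain ⟨r₁, e₁, he₁, hr₁⟩ := hrank p₁
        obtain ⟨g, hg, hgq⟩ := exists_min_nhd_of_exists (hgen p₁) hex he₁ hr₁
        obtain ⟨a, ha, ha'⟩ := (h₁.2 _ he₁.1).exists_uniform
        obtain ⟨c, hc, hc'⟩ := (he₁.2 _ h₁.1).exists_uniform
        refine ⟨g * (a * c), p₁.primeCompl.mul_mem hg (p₁.primeCompl.mul_mem ha hc), fun q hq hle hgn => ?_⟩
        have hq' := hgq q hle (fun h => hgn (q.mul_mem_right _ h))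
        refine ⟨hq'.1.mono fun v hv => ⟨c, fun h => hgn (q.mul_mem_left _ (q.mul_mem_left _ h)), hc' v hv⟩,
          fun G hG => Le.trans (fun v hv => ⟨a, fun h => hgn (q.mul_mem_left _ (q.mul_mem_right _ h)), ha' v hv⟩) (hq'.2 G hG)⟩)
      p hp he
    exact ⟨f, hf, F, fun q _ hq => hfq q inferInstance hq⟩
  choose f hf F hF using fun p : PrimeSpectrum R => hnhd p.asIdeal
  obtain ⟨S, hS⟩ := (inferInstance : CompactSpace (PrimeSpectrum R)).isCompact_univ.elim_finite_subcover
    (fun p : PrimeSpectrum R => (PrimeSpectrum.basicOpen (f p) : Set (PrimeSpectrum R)))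
    (fun p => PrimeSpectrum.isOpen_basicOpen) (fun q _ => Set.mem_iUnion.mpr ⟨q, hf q⟩)
  let C : Submodule R (Fin n → R) :=
    { carrier := {v | ∀ (q : Ideal R), q.IsPrime → ∀ p ∈ S, f p ∉ q → ∃ s ∉ q, s • v ∈ F p}
      zero_mem' := fun q hq p _ _ => ⟨1, fun h => hq.ne_top ((Ideal.eq_top_iff_one q).mpr h), by simp⟩
      add_mem' := fun {a b} ha hb q hq p hp hfp => by
        obtain ⟨s₁, h₁, h₁'⟩ := ha q hq p hp hfp
        obtain ⟨s₂, h₂, h₂'⟩ := hb q hq p hp hfp
        refine ⟨s₁ * s₂, fun h => (hq.mem_or_mem h).elim h₁ h₂, ?_⟩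
        rw [smul_add, mul_smul, mul_smul, smul_comm s₁ s₂ a]
        exact add_mem ((F p).smul_mem _ h₁') ((F p).smul_mem _ h₂')
      smul_mem' := fun c a ha q hq p hp hfp => by
        obtain ⟨s₁, h₁, h₁'⟩ := ha q hq p hp hfp
        exact ⟨s₁, h₁, by rw [smul_comm]; exact (F p).smul_mem c h₁'⟩ }
  have hpow : ∀ p₀ ∈ S, ∀ v ∈ F p₀, ∀ q₀ : Ideal R, q₀.IsPrime → f p₀ ∉ q₀ → ∃ t ∉ q₀, t • v ∈ C := by
    intro p₀ hp₀ v hv q₀ hq₀ hfq₀
    have hk : ∀ p ∈ S, ∃ k, (f p₀ * f p) ^ k • v ∈ F p := fun p _ => by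
      suffices h : f p₀ * f p ∈ ((F p).colon {v}).radical from
        h.imp fun k hk => Submodule.mem_colon_singleton.mp hk
      rw [Ideal.radical_eq_sInf]
      refine Ideal.mem_sInf.mpr fun {Q} ⟨hle, hQ⟩ => by_contra fun hn => ?_
      have h1 : f p₀ ∉ Q := fun h => hn (Q.mul_mem_right _ h)
      have h2 : f p ∉ Q := fun h => hn (Q.mul_mem_left _ h)
      haveI := hQ
      obtain ⟨s, hs, hsv⟩ := (hF p₀ Q h1).2 _ (hF p Q h2).1 v hv
      exact hs (hle (Submodule.mem_colon_singleton.mpr hsv))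
    choose! k hk using hk
    refine ⟨f p₀ ^ S.sum k, fun h => hfq₀ (hq₀.mem_of_pow_mem _ h), fun Q hQ p hp hfp => ?_⟩
    refine ⟨f p ^ k p, fun h => hfp (hQ.mem_of_pow_mem _ h), ?_⟩
    obtain ⟨j, hj⟩ := Nat.exists_eq_add_of_le (Finset.single_le_sum (fun i _ => Nat.zero_le (k i)) hp)
    rw [hj, pow_add, smul_smul, show f p ^ k p * (f p₀ ^ k p * f p₀ ^ j) = f p₀ ^ j * (f p₀ * f p) ^ k p by
      rw [mul_pow]; ring, mul_smul]
    exact (F p).smul_mem _ (hk p hp)
  refine ⟨C, ?_, fun G hG v hv => ?_⟩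
  · have hcolon : ((odot M C).colon {x}) = ⊤ := by
      by_contra hne
      obtain ⟨Q, hQ, hle⟩ := Ideal.exists_le_maximal _ hne
      obtain ⟨p, hp, hfp⟩ := Set.mem_iUnion₂.mp (hS (Set.mem_univ (⟨Q, hQ.isPrime⟩ : PrimeSpectrum R)))
      haveI := hQ.isPrime
      have hle' : Le Q (F p) C := fun v hv => hpow p hp v hv Q hQ.isPrime hfp
      obtain ⟨s, hs, hsx⟩ := (hF p Q hfp).1.mono hle'
      exact hs (hle (Submodule.mem_colon_singleton.mpr hsx))
    have h1 : (1 : R) • x ∈ odot M C := Submodule.mem_colon_singleton.mp (hcolon ▸ Submodule.mem_top)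
    rwa [one_smul] at h1
  · have hG' : x ∈ odot M G := hG
    have hcolon : (G.colon {v}) = ⊤ := by
      by_contra hne
      obtain ⟨Q, hQ, hle⟩ := Ideal.exists_le_maximal _ hne
      obtain ⟨p, hp, hfp⟩ := Set.mem_iUnion₂.mp (hS (Set.mem_univ (⟨Q, hQ.isPrime⟩ : PrimeSpectrum R)))
      haveI := hQ.isPrime
      obtain ⟨s, hs, hsv⟩ := hv Q hQ.isPrime p hp hfp
      obtain ⟨t, ht, htv⟩ := (hF p Q hfp).2 G ⟨1, Q.primeCompl.one_mem, by rw [one_smul]; exact hG'⟩ _ hsv
      refine Q.primeCompl.mul_mem ht hs (hle (Submodule.mem_colon_singleton.mpr ?_))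
      rw [mul_smul]; exact htv
    have h1 : (1 : R) • v ∈ G := Submodule.mem_colon_singleton.mp (hcolon ▸ Submodule.mem_top)
    rwa [one_smul] at h1


end Groth.VanishLib
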