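import Mathlib
import Groth.Agent.VanishLib.Glue
import Groth.Agent.Calg1.Completion

/-!
# The smallest ideal modulo which an element of a flat module vanishes
-/

set_option autoImplicit false
universe u

namespace Groth.VanishLib

open TensorProduct IsLocalRing Groth.RaynaudGruson

variable {R M : Type u} [CommRing R] [AddCommGroup M] [Module R M]

theorem mem_ker_smul_iff [Module.Flat R M] {N : Type u} [AddCommGroup N] [Module R N] (φ : R →ₗ[R] N) (x : M) :
    x ∈ LinearMap.ker φ • (⊤ : Submodule R M) ↔ φ 1 ⊗ₜ[R] x = 0 := by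
  constructor
  · intro hx
    refine Submodule.smul_induction_on hx (fun a ha m _ => ?_) fun y z hy hz => ?_
    · rw [tmul_smul, smul_tmul', ← map_smul, smul_eq_mul, mul_one, LinearMap.mem_ker.1 ha, zero_tmul]
    · rw [tmul_add, hy, hz, add_zero]
  · intro hx
    have hex : Function.Exact (LinearMap.ker φ).subtype φ := fun a => by simp
    obtain ⟨z, hz⟩ := (Module.Flat.rTensor_exact M hex ((1 : R) ⊗ₜ x)).1 (by simpa using hx)
    have h : ∀ w, TensorProduct.lid R M ((LinearMap.ker φ).subtype.rTensor M w) ∈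
        LinearMap.ker φ • (⊤ : Submodule R M) := by
      intro w
      induction w with
      | zero => simp
      | tmul a m => simpa using Submodule.smul_mem_smul a.2 (Submodule.mem_top : m ∈ ⊤)
      | add y z hy hz => rw [map_add, map_add]; exact add_mem hy hz
    simpa [hz] using h z

/-- If `s • x` vanishes modulo `I` then `x` vanishes modulo every kernel containing `I` where `s` is invertible. -/
theorem mem_ker_smul_of_isUnit [Module.Flat R M] {C : Type u} [CommRing C] (φ : R →+* C) {I : Ideal R}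
    (hI : I ≤ RingHom.ker φ) {s : R} (hs : IsUnit (φ s)) {x : M} (hx : s • x ∈ I • (⊤ : Submodule R M)) :
    x ∈ RingHom.ker φ • (⊤ : Submodule R M) := by
  let f : R →ₗ[R] R ⧸ I := (Submodule.mkQ I).comp (LinearMap.lsmul R R s)
  refine Submodule.smul_mono_left (fun a ha => ?_) ((mem_ker_smul_iff f x).2 ?_)
  · have h1 : s * a ∈ I := Ideal.Quotient.eq_zero_iff_mem.1 ha
    exact RingHom.mem_ker.2 (hs.mul_right_eq_zero.1 (by rw [← map_mul]; exact hI h1))
  · have h : (Submodule.mkQ I) 1 ⊗ₜ[R] (s • x) = 0 :=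
      (mem_ker_smul_iff (Submodule.mkQ I) _).1 (by rw [Submodule.ker_mkQ]; exact hx)
    rw [tmul_smul, smul_tmul', ← map_smul] at h
    exact h

theorem mem_inf_smul [Module.Flat R M] {I J : Ideal R} {x : M} (hI : x ∈ I • (⊤ : Submodule R M))
    (hJ : x ∈ J • (⊤ : Submodule R M)) : x ∈ (I ⊓ J) • (⊤ : Submodule R M) := by
  let f : R →ₗ[R] (R ⧸ I) × (R ⧸ J) := (Submodule.mkQ I).prod (Submodule.mkQ J)
  have hf : LinearMap.ker f = I ⊓ J := by simp [f, LinearMap.ker_prod]
  rw [← hf, mem_ker_smul_iff]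
  have h1 := (mem_ker_smul_iff (Submodule.mkQ I) x).1 (by rwa [Submodule.ker_mkQ])
  have h2 := (mem_ker_smul_iff (Submodule.mkQ J) x).1 (by rwa [Submodule.ker_mkQ])
  refine (TensorProduct.prodLeft R R (R ⧸ I) (R ⧸ J) M).injective ?_
  rw [map_zero]
  exact Prod.ext (by simpa [f] using h1) (by simpa [f] using h2)

/-- The vanishing of `x` over Noetherian local rings is detected on the infinitesimal neighbourhoods. -/
def IsFormallyDetected (R : Type u) {M : Type u} [CommRing R] [AddCommGroup M] [Module R M] (x : M) : Prop :=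
  ∀ (C : Type u) [CommRing C] [IsNoetherianRing C] [IsLocalRing C] (φ : R →+* C),
    (∀ n : ℕ, x ∈ RingHom.ker ((Ideal.Quotient.mk (maximalIdeal C ^ n)).comp φ) • (⊤ : Submodule R M)) →
      x ∈ RingHom.ker φ • (⊤ : Submodule R M)

theorem isArtinianRing_quot_pow {B : Type u} [CommRing B] [IsNoetherianRing B] [IsLocalRing B] (n : ℕ) :
    IsArtinianRing (B ⧸ maximalIdeal B ^ n) := by
  refine isArtinianRing_iff_isNoetherianRing_krullDimLE_zero.2 ⟨inferInstance, Ring.KrullDimLE.mk₀ fun q hq => ?_⟩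
  have hsurj : Function.Surjective (Ideal.Quotient.mk (maximalIdeal B ^ n)) := Ideal.Quotient.mk_surjective
  have hc : (q.comap (Ideal.Quotient.mk (maximalIdeal B ^ n))).IsPrime := Ideal.comap_isPrime _ q
  have hmq : maximalIdeal B ≤ q.comap (Ideal.Quotient.mk (maximalIdeal B ^ n)) := fun y hy => by
    refine hc.mem_of_pow_mem n ?_
    rw [Ideal.mem_comap, Ideal.Quotient.eq_zero_iff_mem.2 (Ideal.pow_mem_pow hy n)]
    exact zero_mem _
  have heq := (IsLocalRing.maximalIdeal.isMaximal B).eq_of_le hc.ne_top hmq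
  rw [← Ideal.map_comap_of_surjective _ hsurj q, ← heq]
  refine (Ideal.map_eq_top_or_isMaximal_of_surjective _ hsurj (IsLocalRing.maximalIdeal.isMaximal B)).resolve_left
    fun h => hq.ne_top ?_
  rw [← Ideal.map_comap_of_surjective _ hsurj q, ← heq]
  exact h

/-- In a complete local ring a compatible system of ideals modulo the powers of the maximal ideal
comes from one ideal. -/
theorem le_iInf_sup_pow {B : Type u} [CommRing B] [IsLocalRing B] [IsAdicComplete (maximalIdeal B) B]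
    (J : ℕ → Ideal B) (hanti : ∀ i j, i ≤ j → J j ≤ J i) (hm : ∀ i, maximalIdeal B ^ i ≤ J i)
    (hlift : ∀ i j, J i ≤ J j ⊔ maximalIdeal B ^ i) (n : ℕ) :
    J n ≤ (⨅ i, J i) ⊔ maximalIdeal B ^ n := by
  intro x₀ hx₀
  have hstep : ∀ (i : ℕ) (y : B), y ∈ J (n + i) →
      ∃ y', y' ∈ J (n + (i + 1)) ∧ y' - y ∈ maximalIdeal B ^ (n + i) := by
    intro i y hy
    obtain ⟨y', hy', z, hz, hyz⟩ := Submodule.mem_sup.1 (hlift (n + i) (n + (i + 1)) hy)
    exact ⟨y', hy', by rw [← hyz, sub_add_cancel_left]; exact neg_mem hz⟩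
  choose! next hnext hnext' using hstep
  let y : ℕ → B := fun i => Nat.rec x₀ next i
  have hy : ∀ i, y i ∈ J (n + i) := fun i => by
    induction i with
    | zero => simpa [y] using hx₀
    | succ i ih => exact hnext i _ ih
  have hdiff : ∀ i j, i ≤ j → y j - y i ∈ maximalIdeal B ^ (n + i) := by
    intro i j hij
    induction j, hij using Nat.le_induction with
    | base => simp
    | succ j hij ih =>
      have := add_mem (Ideal.pow_le_pow_right (Nat.add_le_add_left hij n) (hnext' j _ (hy j))) ih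
      simpa [y] using this
  obtain ⟨Y, hY⟩ := IsPrecomplete.prec (I := maximalIdeal B) (M := B) inferInstance (f := y) fun {a b} hab => by
    rw [smul_eq_mul, Ideal.mul_top, SModEq.sub_mem, ← neg_mem_iff, neg_sub]
    exact Ideal.pow_le_pow_right (Nat.le_add_left a n) (hdiff a b hab)
  have hY' : ∀ i, y i - Y ∈ maximalIdeal B ^ i := fun i => by
    have := hY i
    rwa [smul_eq_mul, Ideal.mul_top, SModEq.sub_mem] at this
  refine Submodule.mem_sup.2 ⟨Y, Submodule.mem_iInf _ |>.2 fun i => ?_, x₀ - Y, ?_, by ring⟩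
  · rw [show Y = y i - (y i - Y) by ring]
    exact sub_mem (hanti i (n + i) (Nat.le_add_left i n) (hy i)) (hm i (hY' i))
  · rw [show x₀ - Y = (y n - Y) - (y n - y 0) by simp [y]]
    exact sub_mem (hY' n) (by simpa using hdiff 0 n (Nat.zero_le n))

theorem mem_of_forall_mem_sup_pow {L : Type u} [CommRing L] [IsNoetherianRing L] [IsLocalRing L] (I : Ideal L)
    {a : L} (h : ∀ n : ℕ, a ∈ I ⊔ maximalIdeal L ^ n) : a ∈ I := by
  by_cases htop : I = ⊤
  · rw [htop]; trivial
  haveI : Nontrivial (L ⧸ I) := Ideal.Quotient.nontrivial_iff.2 htop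
  haveI : IsLocalRing (L ⧸ I) := IsLocalRing.of_surjective' _ Ideal.Quotient.mk_surjective
  refine Ideal.Quotient.eq_zero_iff_mem.1 ?_
  have h' : Ideal.Quotient.mk I a ∈ ⨅ n : ℕ, ((maximalIdeal L).map (Ideal.Quotient.mk I)) ^ n := by
    refine (Submodule.mem_iInf _).2 fun n => ?_
    rw [← Ideal.map_pow]
    have := Ideal.mem_map_of_mem (Ideal.Quotient.mk I) (h n)
    rwa [Ideal.map_sup, Ideal.map_quotient_self, bot_sup_eq] at this
  rwa [Ideal.iInf_pow_eq_bot_of_isLocalRing _ (fun hh => ?_), Submodule.mem_bot] at h'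
  have h2 := congrArg (Ideal.comap (Ideal.Quotient.mk I)) hh
  rw [Ideal.comap_map_of_surjective _ Ideal.Quotient.mk_surjective, ← RingHom.ker_eq_comap_bot, Ideal.mk_ker,
    Ideal.comap_top, sup_eq_left.2 (IsLocalRing.le_maximalIdeal htop)] at h2
  exact (IsLocalRing.maximalIdeal.isMaximal L).ne_top h2

/-- Descend membership from the completion to the level `n`. -/
theorem mem_sup_pow_of_completion {L : Type u} [CommRing L] [IsNoetherianRing L] [IsLocalRing L] (I : Ideal L)
    (a : L) (n : ℕ) (h : algebraMap L (AdicCompletion (maximalIdeal L) L) a ∈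
      I.map (algebraMap L (AdicCompletion (maximalIdeal L) L)) ⊔
        maximalIdeal (AdicCompletion (maximalIdeal L) L) ^ n) :
    a ∈ I ⊔ maximalIdeal L ^ n := by
  let ev : AdicCompletion (maximalIdeal L) L →+* L ⧸ maximalIdeal L ^ n :=
    (AdicCompletion.evalₐ (maximalIdeal L) n).toRingHom
  have hev : ev.comp (algebraMap L _) = Ideal.Quotient.mk (maximalIdeal L ^ n) :=
    AlgHom.comp_algebraMap _
  have h2 := Ideal.mem_map_of_mem ev h
  rw [Ideal.map_sup, AdicCompletion.maximalIdeal_eq_map, ← Ideal.map_pow, Ideal.map_map, Ideal.map_map, hev,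
    ← Ideal.map_sup, show ev (algebraMap L _ a) = Ideal.Quotient.mk (maximalIdeal L ^ n) a from
      RingHom.congr_fun hev a] at h2
  have h3 : a ∈ ((I ⊔ maximalIdeal L ^ n).map (Ideal.Quotient.mk (maximalIdeal L ^ n))).comap
      (Ideal.Quotient.mk _) := h2
  rwa [Ideal.comap_map_of_surjective _ Ideal.Quotient.mk_surjective, ← RingHom.ker_eq_comap_bot, Ideal.mk_ker,
    sup_assoc, sup_idem] at h3

theorem exists_min_ideal_at_aux [Module.Flat R M] (x : M) (hx : IsFormallyDetected R x)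
    (p : Ideal R) [p.IsPrime] {B : Type u} [CommRing B] [IsNoetherianRing B] [IsLocalRing B]
    [IsAdicComplete (maximalIdeal B) B] (ψ : R →+* B) (hunit : ∀ s ∉ p, IsUnit (ψ s))
    (hψp : ∀ a ∈ p, ψ a ∈ maximalIdeal B)
    (hdesc : ∀ (I : Ideal R) (a : R), (∀ n : ℕ, ψ a ∈ I.map ψ ⊔ maximalIdeal B ^ n) → ∃ t ∉ p, t * a ∈ I) :
    ∃ K : Ideal R, (∃ s ∉ p, s • x ∈ K • (⊤ : Submodule R M)) ∧
      ∀ I : Ideal R, (∃ s ∉ p, s • x ∈ I • (⊤ : Submodule R M)) → ∀ a ∈ K, ∃ t ∉ p, t * a ∈ I := by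
  classical
  let P : Ideal R → Prop := fun I => ∃ s ∉ p, s • x ∈ I • (⊤ : Submodule R M)
  by_cases hall : ∀ I, P I → ¬ I ≤ p
  · refine ⟨⊤, ⟨1, p.primeCompl.one_mem, by simp⟩, fun I hI a _ => ?_⟩
    obtain ⟨t, htI, htp⟩ := SetLike.not_le_iff_exists.1 (hall I hI)
    exact ⟨t, htp, I.mul_mem_right a htI⟩
  push Not at hall
  obtain ⟨I₀, hI₀, hI₀p⟩ := hall
  have hinf : ∀ I J, P I → P J → P (I ⊓ J) := by
    rintro I J ⟨s, hs, hsx⟩ ⟨t, ht, htx⟩
    refine ⟨s * t, p.primeCompl.mul_mem hs ht, mem_inf_smul ?_ ?_⟩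
    · rw [mul_comm, mul_smul]; exact Submodule.smul_mem _ t hsx
    · rw [mul_smul]; exact Submodule.smul_mem _ s htx
  let m := maximalIdeal B
  -- the minimal ideals at each level
  have hmin : ∀ n : ℕ, ∃ In, P In ∧ ∀ I, P I → In.map ψ ⊔ m ^ n ≤ I.map ψ ⊔ m ^ n := by
    intro n
    haveI : IsArtinianRing (B ⧸ m ^ n) := isArtinianRing_quot_pow n
    obtain ⟨_, ⟨In, hIn, rfl⟩, hmin⟩ := IsArtinian.set_has_minimal
      ((fun I : Ideal R => (I.map ψ).map (Ideal.Quotient.mk (m ^ n))) '' {I | P I}) ⟨_, I₀, hI₀, rfl⟩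
    refine ⟨In, hIn, fun I hI => ?_⟩
    have h1 : ((I ⊓ In).map ψ).map (Ideal.Quotient.mk (m ^ n)) = (In.map ψ).map (Ideal.Quotient.mk (m ^ n)) := by
      have hle : ((I ⊓ In).map ψ).map (Ideal.Quotient.mk (m ^ n)) ≤ (In.map ψ).map (Ideal.Quotient.mk (m ^ n)) :=
        Ideal.map_mono (Ideal.map_mono inf_le_right)
      exact hle.eq_of_not_lt (hmin _ ⟨_, hinf I In hI hIn, rfl⟩)
    have h2 := congrArg (Ideal.comap (Ideal.Quotient.mk (m ^ n))) h1
    rw [Ideal.comap_map_of_surjective _ Ideal.Quotient.mk_surjective,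
      Ideal.comap_map_of_surjective _ Ideal.Quotient.mk_surjective, ← RingHom.ker_eq_comap_bot, Ideal.mk_ker] at h2
    rw [← h2]
    exact sup_le_sup_right (Ideal.map_mono inf_le_left) _
  choose In hIn hInmin using hmin
  let J : ℕ → Ideal B := fun n => (In n).map ψ ⊔ m ^ n
  have hanti : ∀ i j, i ≤ j → J j ≤ J i := fun i j h =>
    (hInmin j (In i) (hIn i)).trans (sup_le_sup_left (Ideal.pow_le_pow_right h) _)
  have hlift : ∀ i j, J i ≤ J j ⊔ m ^ i := fun i j => by
    refine (hInmin i (In j) (hIn j)).trans ?_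
    exact sup_le_sup_right le_sup_left _
  let K : Ideal B := ⨅ n, J n
  have hJK : ∀ n, J n ≤ K ⊔ m ^ n := le_iInf_sup_pow J hanti (fun i => le_sup_right) hlift
  have hK : K ≠ ⊤ := by
    intro h
    have h1 : J 1 ≤ m := by
      refine (hInmin 1 I₀ hI₀).trans (sup_le ?_ (le_of_eq (pow_one m)))
      exact Ideal.map_le_iff_le_comap.2 fun a ha => hψp a (hI₀p ha)
    exact (IsLocalRing.maximalIdeal.isMaximal B).ne_top (top_le_iff.1 (h ▸ (iInf_le J 1).trans h1))
  haveI : Nontrivial (B ⧸ K) := Ideal.Quotient.nontrivial_iff.2 hK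
  haveI : IsLocalRing (B ⧸ K) := IsLocalRing.of_surjective' _ Ideal.Quotient.mk_surjective
  let φ : R →+* B ⧸ K := (Ideal.Quotient.mk K).comp ψ
  have hφ := hx (B ⧸ K) φ fun n => by
    obtain ⟨s, hs, hsx⟩ := hIn n
    have hu' : IsUnit (((Ideal.Quotient.mk (maximalIdeal (B ⧸ K) ^ n)).comp φ) s) :=
      ((hunit s hs).map (Ideal.Quotient.mk K)).map (Ideal.Quotient.mk (maximalIdeal (B ⧸ K) ^ n))
    refine mem_ker_smul_of_isUnit (I := In n) (s := s) _ (fun a ha => ?_) hu' hsx
    obtain ⟨u, hu, v, hv, huv⟩ := Submodule.mem_sup.1 (hJK n (le_sup_left (b := m ^ n) (Ideal.mem_map_of_mem ψ ha)))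
    refine RingHom.mem_ker.2 (Ideal.Quotient.eq_zero_iff_mem.2 ?_)
    show Ideal.Quotient.mk K (ψ a) ∈ _
    rw [← huv, map_add, Ideal.Quotient.eq_zero_iff_mem.2 hu, zero_add]
    have hm : m.map (Ideal.Quotient.mk K) ≤ maximalIdeal (B ⧸ K) := by
      refine Ideal.map_le_iff_le_comap.2 fun z hz => ?_
      rw [Ideal.mem_comap, IsLocalRing.mem_maximalIdeal, mem_nonunits_iff]
      intro h
      obtain ⟨w, hw⟩ := Ideal.Quotient.mk_surjective (↑h.unit⁻¹ : B ⧸ K)
      have h1 : z * w - 1 ∈ K := Ideal.Quotient.eq.1 (by rw [map_mul, hw, map_one]; exact h.mul_val_inv)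
      exact (IsLocalRing.maximalIdeal.isMaximal B).ne_top ((Ideal.eq_top_iff_one _).2
        (sub_sub_cancel (z * w) 1 ▸ sub_mem (Ideal.mul_mem_right w _ hz) (IsLocalRing.le_maximalIdeal hK h1)))
    exact Ideal.pow_right_mono hm n (Ideal.map_pow (Ideal.Quotient.mk K) m n ▸ Ideal.mem_map_of_mem _ hv)
  refine ⟨RingHom.ker φ, ⟨1, p.primeCompl.one_mem, by rwa [one_smul]⟩, fun I hI a ha => ?_⟩
  have haK : ψ a ∈ K := Ideal.Quotient.eq_zero_iff_mem.1 ha
  exact hdesc I a fun n => ((iInf_le J n).trans (hInmin n I hI)) haK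

theorem exists_min_ideal_at [IsNoetherianRing R] [Module.Flat R M] (x : M) (hx : IsFormallyDetected R x)
    (p : Ideal R) [p.IsPrime] :
    ∃ K : Ideal R, (∃ s ∉ p, s • x ∈ K • (⊤ : Submodule R M)) ∧
      ∀ I : Ideal R, (∃ s ∉ p, s • x ∈ I • (⊤ : Submodule R M)) → ∀ a ∈ K, ∃ t ∉ p, t * a ∈ I := by
  haveI : IsNoetherianRing (AdicCompletion (maximalIdeal (Localization.AtPrime p)) (Localization.AtPrime p)) :=
    Groth.Calg1.isNoetherianRing_adicCompletion _ (IsNoetherian.noetherian _)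
  refine exists_min_ideal_at_aux x hx p
    ((algebraMap (Localization.AtPrime p) (AdicCompletion (maximalIdeal (Localization.AtPrime p))
      (Localization.AtPrime p))).comp (algebraMap R (Localization.AtPrime p))) (fun s hs => ?_) (fun a ha => ?_)
    fun I a h => ?_
  · exact (IsLocalization.map_units (Localization.AtPrime p) (⟨s, hs⟩ : p.primeCompl)).map
      (algebraMap _ (AdicCompletion (maximalIdeal (Localization.AtPrime p)) (Localization.AtPrime p)))
  · rw [RingHom.comp_apply, AdicCompletion.maximalIdeal_eq_map]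
    exact Ideal.mem_map_of_mem _ ((IsLocalization.AtPrime.to_map_mem_maximal_iff _ p a).2 ha)
  · have hmem := mem_of_forall_mem_sup_pow (I.map (algebraMap R (Localization.AtPrime p)))
      (a := algebraMap R (Localization.AtPrime p) a) fun n => mem_sup_pow_of_completion _ _ n (by
        rw [Ideal.map_map]; exact h n)
    exact (IsLocalization.algebraMap_mem_map_algebraMap_iff p.primeCompl _ I a).1 hmem

/-- An element of a flat module which is formally detected has a smallest ideal modulo which it vanishes. -/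
theorem exists_min_ideal [IsNoetherianRing R] [Module.Flat R M]
    (hgen : ∀ (p : Ideal R) [p.IsPrime], ∃ f ∉ p, Module.Free (Localization.Away (Ideal.Quotient.mk p f))
      (LocalizedModule (Submonoid.powers (Ideal.Quotient.mk p f)) (M ⧸ (p • ⊤ : Submodule R M))))
    (x : M) (hx : IsFormallyDetected R x) :
    ∃ K : Ideal R, x ∈ K • (⊤ : Submodule R M) ∧ ∀ I : Ideal R, x ∈ I • (⊤ : Submodule R M) → K ≤ I := by
  let pr : (Fin 1 → R) →ₗ[R] R := LinearMap.proj 0
  have hto : ∀ (G : Submodule R (Fin 1 → R)) (y : Fin 1 → M), y ∈ odot M G ↔ y 0 ∈ G.map pr • (⊤ : Submodule R M) := by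
    intro G y
    constructor
    · intro hy
      have h : odot M G ≤ (G.map pr • (⊤ : Submodule R M)).comap (LinearMap.proj 0) :=
        Submodule.map₂_le.2 fun v hv m _ => Submodule.smul_mem_smul (Submodule.mem_map_of_mem hv) trivial
      exact h hy
    · intro hy
      have h : G.map pr • (⊤ : Submodule R M) ≤ (odot M G).comap (LinearMap.pi fun _ : Fin 1 => LinearMap.id) :=
        Submodule.smul_le.2 fun a ha m _ => by
          obtain ⟨v, hv, rfl⟩ := ha
          show (fun _ : Fin 1 => v 0 • m) ∈ odot M G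
          have : (fun _ : Fin 1 => v 0 • m) = sv v m := funext fun i => by rw [Subsingleton.elim i 0]; rfl
          rw [this]
          exact Submodule.apply_mem_map₂ _ hv trivial
      have h' := h hy
      rwa [Submodule.mem_comap, show LinearMap.pi (fun _ : Fin 1 => LinearMap.id) (y 0) = y from
        funext fun i => by rw [Subsingleton.elim i 0]; rfl] at h'
  have hback : ∀ I : Ideal R, (Submodule.comap pr I).map pr = I := fun I =>
    Submodule.map_comap_eq_of_surjective (f := pr) (fun r => ⟨fun _ => r, rfl⟩) I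
  let x' : Fin 1 → M := fun _ => x
  have hex : ∀ (q : Ideal R) [q.IsPrime], ∃ G : Submodule R (Fin 1 → R), Min q G x' := by
    intro q _
    obtain ⟨K, ⟨s, hs, hsx⟩, hK⟩ := exists_min_ideal_at x hx q
    refine ⟨Submodule.comap pr K, ⟨s, hs, (hto _ _).2 (by rw [hback]; exact hsx)⟩, fun G ⟨t, ht, htx⟩ v hv => ?_⟩
    obtain ⟨w, hw, hw'⟩ := hK (G.map pr) ⟨t, ht, (hto _ _).1 htx⟩ (v 0) hv
    obtain ⟨g, hg, hg'⟩ := hw'
    refine ⟨w, hw, ?_⟩
    rwa [show w • v = g from funext fun i => by rw [Subsingleton.elim i 0]; exact hg'.symm]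
  obtain ⟨C, hC, hCmin⟩ := exists_content_of_exists_min hgen x' hex
  refine ⟨C.map pr, (hto _ x').1 hC, fun I hI => ?_⟩
  rw [← hback I]
  exact Submodule.map_mono (hCmin _ ((hto _ x').2 (by rw [hback]; exact hI)))

end Groth.VanishLib
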