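import Mathlib
import Groth.Agent.VanishLib.Basic
import Groth.Agent.VanishLib.Content
import Groth.Agent.Flatmor4.FlatModAffine
import Groth.Agent.QCohMod.PullbackSections

/-!
# Vanishing over affine base changes in terms of sections
-/

set_option autoImplicit false
set_option linter.style.haveILetI false
universe u

open CategoryTheory CategoryTheory.Limits AlgebraicGeometry TopologicalSpace TensorProduct

noncomputable section

namespace Groth.VanishLib

open Groth.PicAux (res res_res res_self res_ext app_res res_zero res_smul pullSec pullSec_map)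
open Groth.QCohMod (sectionsAlg pullSecTensor pullSecTensor_bijective)
open Groth.Flatmor4

variable {Y S : Scheme.{u}} {q : Y ⟶ S} {G F : Y.Modules}

section Sections

variable {P : Scheme.{u}} (π : P ⟶ Y)

theorem pullSecTensor_tmul {W : Y.Opens} {V : P.Opens} (e : V ≤ π ⁻¹ᵁ W) (b : Γ(P, V)) (m : Γ(F, W)) :
    letI := sectionsAlg π e
    pullSecTensor π F e (b ⊗ₜ m) = b • res _ e (pullSec π F m) :=
  rfl

/-- The pullback of `σ` vanishes over an affine open as soon as it kills the pulled back sections. -/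
theorem app_eq_zero_of_pullSec [G.IsQuasicoherent] (σ : G ⟶ F) {W : Y.Opens} (hW : IsAffineOpen W) {V : P.Opens}
    (hV : IsAffineOpen V) (e : V ≤ π ⁻¹ᵁ W)
    (h : ∀ m : Γ(G, W), res _ e (pullSec π F (σ.app W m)) = 0) (x : Γ((Scheme.Modules.pullback π).obj G, V)) :
    ((Scheme.Modules.pullback π).map σ).app V x = 0 := by
  letI := sectionsAlg π e
  obtain ⟨z, rfl⟩ := (pullSecTensor_bijective π G e hW hV).2 x
  induction z using TensorProduct.induction_on with
  | zero => simp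
  | tmul b m =>
    rw [pullSecTensor_tmul, Scheme.Modules.Hom.app_smul, app_res, pullSec_map, h m, smul_zero]
  | add y z hy hz => rw [map_add, map_add, hy, hz, add_zero]

theorem vanish_iff_pullSec [G.IsQuasicoherent] (σ : G ⟶ F) {ι : Type*} (W : ι → Y.Opens)
    (hW : ∀ j, IsAffineOpen (W j)) (hcov : iSup W = ⊤) :
    Vanish π σ ↔ ∀ j (m : Γ(G, W j)), pullSec π F (σ.app (W j) m) = 0 := by
  constructor
  · intro h j m
    rw [← pullSec_map π σ m, show (Scheme.Modules.pullback π).map σ = 0 from h]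
    rfl
  · intro h
    refine eq_zero_of_cover (fun j => π ⁻¹ᵁ W j) ?_ _ fun j V hV x => ?_
    · rw [← π.preimage_iSup, hcov, Scheme.Hom.preimage_top]
    have hc : ∀ z : V, ∃ V' : P.Opens, IsAffineOpen V' ∧ z.1 ∈ V' ∧ V' ≤ V := fun z => by
      obtain ⟨V', hV', hz, hle⟩ := exists_isAffineOpen_mem_and_subset (x := z.1) z.2
      exact ⟨V', hV', hz, hle⟩
    choose V' hV' hz hle using hc
    refine res_ext V' hle (fun z hzV => Opens.mem_iSup.2 ⟨⟨z, hzV⟩, hz _⟩) fun z => ?_
    rw [res_zero, ← app_res]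
    exact app_eq_zero_of_pullSec π σ (hW j) (hV' z) ((hle z).trans hV)
      (fun m => by rw [h j m, res_zero]) _

end Sections

variable [IsAffine S] (q F)

/-- The criterion on sections. -/
theorem pullSec_eq_zero_iff [F.IsQuasicoherent] (hF : FlatMod.IsFlatOver q F) {W : Y.Opens} (hW : IsAffineOpen W)
    {T : Scheme.{u}} [IsAffine T] (g : T ⟶ S) (x : Γ(F, W)) :
    letI := sectionModule q F (U := W) (V := ⊤) le_top
    pullSec (pullback.fst q g) F x = 0 ↔ x ∈ RingHom.ker g.appTop.hom • (⊤ : Submodule Γ(S, ⊤) Γ(F, W)) := by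
  let π := pullback.fst q g
  let χ := pullback.snd q g
  have H : IsPullback π χ q g := IsPullback.of_hasPullback q g
  have eT : (⊤ : T.Opens) ≤ g ⁻¹ᵁ ⊤ := le_top
  have e : W ≤ q ⁻¹ᵁ ⊤ := le_top
  let W' := π ⁻¹ᵁ W ⊓ χ ⁻¹ᵁ ⊤
  have hS : IsAffineOpen (⊤ : S.Opens) := isAffineOpen_top S
  have hT : IsAffineOpen (⊤ : T.Opens) := isAffineOpen_top T
  have : IsAffine _ := hS
  have : IsAffine _ := hT
  have : IsAffine _ := hW
  have hW' : IsAffineOpen W' :=
    .of_isIso (Scheme.Hom.isPullback_resLE H eT e (rfl : W' = _)).isoPullback.hom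
  have hpo := (isIso_pushoutSection_iff H eT e rfl).mp
    (isIso_pushoutSection_of_isAffineOpen H eT e rfl hS hT hW)
  have eWU : W' ≤ π ⁻¹ᵁ W := inf_le_left
  have eWV : W' ≤ χ ⁻¹ᵁ ⊤ := inf_le_right
  letI := sectionModule q F e
  letI := (q.appLE ⊤ W e).hom.toAlgebra
  letI := (g.appLE ⊤ ⊤ eT).hom.toAlgebra
  letI := sectionsAlg π eWU
  letI := (χ.appLE ⊤ W' eWV).hom.toAlgebra
  letI : Algebra Γ(S, ⊤) Γ(pullback q g, W') :=
    ((π.appLE W W' eWU).hom.comp (q.appLE ⊤ W e).hom).toAlgebra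
  haveI : IsScalarTower Γ(S, ⊤) Γ(Y, W) Γ(pullback q g, W') := .of_algebraMap_eq' rfl
  haveI : IsScalarTower Γ(S, ⊤) Γ(T, ⊤) Γ(pullback q g, W') :=
    .of_algebraMap_eq fun a => congr($(hpo.w) a)
  haveI : Algebra.IsPushout Γ(S, ⊤) Γ(Y, W) Γ(T, ⊤) Γ(pullback q g, W') :=
    CommRingCat.isPushout_iff_isPushout.mp hpo
  haveI : Algebra.IsPushout Γ(S, ⊤) Γ(T, ⊤) Γ(Y, W) Γ(pullback q g, W') := .symm inferInstance
  haveI : IsScalarTower Γ(S, ⊤) Γ(Y, W) Γ(F, W) := .of_algebraMap_smul fun _ _ => rfl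
  haveI : Module.Flat Γ(S, ⊤) Γ(F, W) := (flat_sections_iff q F hW hS e).2 fun z _ => hF z
  have hker : LinearMap.ker (Algebra.linearMap Γ(S, ⊤) Γ(T, ⊤)) = RingHom.ker g.appTop.hom := by
    ext r
    simp [RingHom.algebraMap_toAlgebra, Scheme.Hom.appLE, Scheme.Hom.appTop]
  rw [← hker, mem_ker_smul_iff, Algebra.linearMap_apply, map_one]
  have h1 : pullSec π F x = 0 ↔ res _ eWU (pullSec π F x) = 0 := by
    refine ⟨fun h => by rw [h, res_zero], fun h => ?_⟩
    refine res_ext (fun _ : Unit => W') (fun _ => eWU) (fun z hz => Opens.mem_iSup.2 ⟨(), hz, trivial⟩) fun _ => ?_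
    rw [h, res_zero]
  refine h1.trans ?_
  have h2 : res _ eWU (pullSec π F x) = pullSecTensor π F eWU ((1 : Γ(pullback q g, W')) ⊗ₜ x) := by
    rw [pullSecTensor_tmul, one_smul]
  rw [h2, map_eq_zero_iff _ (pullSecTensor_bijective π F eWU hW hW').1,
    ← map_eq_zero_iff _ (Algebra.IsPushout.cancelBaseChange Γ(S, ⊤) Γ(T, ⊤) Γ(Y, W) Γ(pullback q g, W') Γ(F, W)).injective,
    Algebra.IsPushout.cancelBaseChange_tmul]

/-- Vanishing of `σ` after an affine base change in terms of the sections. -/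
theorem vanish_fst_iff [G.IsQuasicoherent] [F.IsQuasicoherent] (hF : FlatMod.IsFlatOver q F) (σ : G ⟶ F)
    {ι : Type*} (W : ι → Y.Opens) (hW : ∀ j, IsAffineOpen (W j)) (hcov : iSup W = ⊤)
    {T : Scheme.{u}} [IsAffine T] (g : T ⟶ S) :
    Vanish (pullback.fst q g) σ ↔ ∀ j (m : Γ(G, W j)),
      letI := sectionModule q F (U := W j) (V := ⊤) le_top
      σ.app (W j) m ∈ RingHom.ker g.appTop.hom • (⊤ : Submodule Γ(S, ⊤) Γ(F, W j)) := by
  rw [vanish_iff_pullSec _ σ W hW hcov]
  exact forall_congr' fun j => forall_congr' fun m => pullSec_eq_zero_iff q F hF (hW j) g _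

end Groth.VanishLib
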