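import Mathlib
import Groth.Agent.VanishLib.Content
import Groth.Agent.RaynaudGruson.PureProjectiveNoeth

/-!
# The smallest ideal for a finite family of elements of flat modules
-/

set_option autoImplicit false
universe u

namespace Groth.VanishLib

variable {R : Type u} [CommRing R] {ι : Type u} [Finite ι]

theorem finiteType_pi (A : ι → Type u) [∀ i, CommRing (A i)] [∀ i, Algebra R (A i)]
    [hA : ∀ i, Algebra.FiniteType R (A i)] : Algebra.FiniteType R (∀ i, A i) := by
  classical
  have := Fintype.ofFinite ι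
  choose s hs using fun i => (hA i).out
  let G : Finset (∀ i, A i) := Finset.univ.biUnion fun i => (insert 1 (s i)).image (Pi.single i)
  refine ⟨⟨G, top_unique fun a _ => ?_⟩⟩
  rw [← Finset.univ_sum_single a]
  refine Subalgebra.sum_mem _ fun i _ => ?_
  have hG : ∀ x ∈ insert 1 (s i), Pi.single i x ∈ Algebra.adjoin R (G : Set (∀ i, A i)) := fun x hx =>
    Algebra.subset_adjoin (Finset.mem_coe.2 (Finset.mem_biUnion.2
      ⟨i, Finset.mem_univ i, Finset.mem_image.2 ⟨x, hx, rfl⟩⟩))
  suffices ∀ y, y ∈ Algebra.adjoin R (s i : Set (A i)) → Pi.single i y ∈ Algebra.adjoin R (G : Set (∀ i, A i)) from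
    this _ (hs i ▸ trivial)
  intro y hy
  induction hy using Algebra.adjoin_induction with
  | mem x hx => exact hG x (Finset.mem_insert_of_mem hx)
  | algebraMap r =>
    rw [Algebra.algebraMap_eq_smul_one, Pi.single_smul]
    exact Subalgebra.smul_mem _ (hG 1 (Finset.mem_insert_self _ _)) r
  | add x y _ _ hx hy => rw [Pi.single_add]; exact add_mem hx hy
  | mul x y _ _ hx hy => rw [Pi.single_mul]; exact mul_mem hx hy

section

variable (N : ι → Type u) [∀ i, AddCommGroup (N i)] [∀ i, Module R (N i)]

theorem flat_pi [∀ i, Module.Flat R (N i)] : Module.Flat R (∀ i, N i) := by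
  classical
  have := Fintype.ofFinite ι
  exact Module.Flat.of_linearEquiv (DFinsupp.linearEquivFunOnFintype (R := R) (M := N)).symm

theorem mem_smul_pi_iff (I : Ideal R) (x : ∀ i, N i) :
    x ∈ I • (⊤ : Submodule R (∀ i, N i)) ↔ ∀ i, x i ∈ I • (⊤ : Submodule R (N i)) := by
  classical
  have := Fintype.ofFinite ι
  constructor
  · intro h i
    have h' : I • (⊤ : Submodule R (∀ i, N i)) ≤ (I • (⊤ : Submodule R (N i))).comap (LinearMap.proj i) :=
      Submodule.smul_le.2 fun a ha m _ => Submodule.smul_mem_smul ha (Submodule.mem_top : m i ∈ ⊤)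
    exact h' h
  · intro h
    rw [← Finset.univ_sum_single x]
    refine Submodule.sum_mem _ fun i _ => ?_
    have h' : I • (⊤ : Submodule R (N i)) ≤ (I • (⊤ : Submodule R (∀ i, N i))).comap (LinearMap.single R N i) :=
      Submodule.smul_le.2 fun a ha m _ => by
        rw [Submodule.mem_comap, map_smul]
        exact Submodule.smul_mem_smul ha Submodule.mem_top
    exact h' (h i)

variable (S : ι → Type u) [∀ i, CommRing (S i)] [∀ i, Algebra R (S i)] [∀ i, Module (S i) (N i)]
  [∀ i, IsScalarTower R (S i) (N i)]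

theorem finite_pi_pi [∀ i, Module.Finite (S i) (N i)] : Module.Finite (∀ i, S i) (∀ i, N i) := by
  classical
  have := Fintype.ofFinite ι
  choose s hs using fun i => (Module.Finite.fg_top : (⊤ : Submodule (S i) (N i)).FG)
  let G : Finset (∀ i, N i) := Finset.univ.biUnion fun i => (s i).image (Pi.single i)
  refine ⟨⟨G, top_unique fun a _ => ?_⟩⟩
  rw [← Finset.univ_sum_single a]
  refine Submodule.sum_mem _ fun i _ => ?_
  suffices ∀ y, y ∈ Submodule.span (S i) (s i : Set (N i)) → Pi.single i y ∈ Submodule.span (∀ i, S i) (G : Set (∀ i, N i)) from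
    this _ (hs i ▸ trivial)
  intro y hy
  induction hy using Submodule.span_induction with
  | mem x hx => exact Submodule.subset_span (Finset.mem_coe.2 (Finset.mem_biUnion.2
      ⟨i, Finset.mem_univ i, Finset.mem_image.2 ⟨x, hx, rfl⟩⟩))
  | zero => rw [Pi.single_zero]; exact zero_mem _
  | add x y _ _ hx hy => rw [Pi.single_add]; exact add_mem hx hy
  | smul c x _ hx =>
    have : (Pi.single i (c • x) : ∀ i, N i) = (Pi.single i c : ∀ i, S i) • (Pi.single i x : ∀ i, N i) := by
      ext j
      rcases eq_or_ne j i with rfl | hj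
      · simp
      · simp [hj]
    rw [this]
    exact Submodule.smul_mem _ _ hx

/-- A formally detected finite family of elements of flat finite modules over algebras of finite type has
a smallest ideal of vanishing. -/
theorem exists_min_ideal_family [IsNoetherianRing R] [∀ i, Algebra.FiniteType R (S i)]
    [∀ i, Module.Finite (S i) (N i)] [∀ i, Module.Flat R (N i)] (x : ∀ i, N i)
    (hx : ∀ (C : Type u) [CommRing C] [IsNoetherianRing C] [IsLocalRing C] (φ : R →+* C),
      (∀ (n : ℕ) i, x i ∈ RingHom.ker ((Ideal.Quotient.mk (IsLocalRing.maximalIdeal C ^ n)).comp φ) •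
        (⊤ : Submodule R (N i))) → ∀ i, x i ∈ RingHom.ker φ • (⊤ : Submodule R (N i))) :
    ∃ K : Ideal R, ∀ I : Ideal R, (∀ i, x i ∈ I • (⊤ : Submodule R (N i))) ↔ K ≤ I := by
  haveI : IsScalarTower R (∀ i, S i) (∀ i, N i) :=
    ⟨fun r s m => funext fun i => smul_assoc r (s i) (m i)⟩
  haveI := finite_pi_pi N S
  haveI := finiteType_pi (R := R) S
  haveI := flat_pi (R := R) N
  obtain ⟨K, hK, hmin⟩ := exists_min_ideal (M := ∀ i, N i)
    (fun p _ => Groth.RaynaudGruson.exists_generic_free (S := ∀ i, S i) (N := ∀ i, N i) p) x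
    (fun C _ _ _ φ h => (mem_smul_pi_iff N _ x).2 (hx C φ fun n i => (mem_smul_pi_iff N _ x).1 (h n) i))
  exact ⟨K, fun I => ⟨fun h => hmin I ((mem_smul_pi_iff N I x).2 h),
    fun h i => (mem_smul_pi_iff N I x).1 (Submodule.smul_mono_left h hK) i⟩⟩

end

end Groth.VanishLib
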