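import Mathlib
import Groth.Agent.VanishLib.Criterion
import Groth.Agent.VanishLib.Pi
import Groth.Agent.QCohMod.FiniteType
import Groth.Agent.RhoShLib.Represent

/-!
# The vanishing of a homomorphism into a flat module over a Noetherian base
-/

set_option autoImplicit false
set_option linter.style.haveILetI false
universe u

open CategoryTheory CategoryTheory.Limits AlgebraicGeometry TopologicalSpace IsLocalRing

noncomputable section

namespace Groth.VanishLib

open Groth.PicAux (res res_res res_self res_ext app_res res_zero res_smul pullSec pullSec_smul)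
open Groth.Flatmor4

variable {Y S : Scheme.{u}}

theorem appTop_specMap_fromSpec [IsAffine S] {R : CommRingCat.{u}} (φ : Γ(S, ⊤) ⟶ R) :
    RingHom.ker (Spec.map φ ≫ (isAffineOpen_top S).fromSpec).appTop.hom = RingHom.ker φ.hom := by
  rw [← Groth.RhoShLib.ker_comp_inv (U := (⊤ : S.Opens)) φ,
    ← Groth.RhoShLib.specMap_fromSpec_appLE (isAffineOpen_top S) φ]
  simp [Scheme.Hom.appLE, Scheme.Hom.appTop]

theorem smul_mem_of_mem {A B M : Type u} [CommRing A] [CommRing B] [Algebra A B] [AddCommGroup M] [Module A M]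
    [Module B M] [IsScalarTower A B M] (I : Ideal A) (b : B) {x : M} (hx : x ∈ I • (⊤ : Submodule A M)) :
    b • x ∈ I • (⊤ : Submodule A M) := by
  refine Submodule.smul_induction_on hx (fun a ha m _ => ?_) fun y z hy hz => ?_
  · rw [smul_comm]; exact Submodule.smul_mem_smul ha Submodule.mem_top
  · rw [smul_add]; exact add_mem hy hz

section Fibre

variable {q : Y ⟶ S} [IsAffine S] {G F : Y.Modules} [G.IsQuasicoherent] [F.IsQuasicoherent]

/-- A homomorphism which is formally zero along the closed fibre is zero near it. -/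
theorem exists_nhd_vanish (hFft : CohB1.IsFT F) (σ : G ⟶ F) {C : Type u} [CommRing C] [IsNoetherianRing C]
    [IsLocalRing C] (g : Spec (CommRingCat.of C) ⟶ S) [LocallyOfFiniteType q]
    {W : Y.Opens} (hW : IsAffineOpen W) {κ : Type u} [Finite κ] (gens : κ → Γ(G, W))
    (hgens : Submodule.span Γ(Y, W) (Set.range gens) = ⊤)
    (hn : ∀ (n : ℕ) k, letI := sectionModule q F (U := W) (V := ⊤) le_top
      σ.app W (gens k) ∈ RingHom.ker ((Ideal.Quotient.mk (maximalIdeal C ^ n)).comp
        (g.appTop ≫ (Scheme.ΓSpecIso (CommRingCat.of C)).hom).hom) • (⊤ : Submodule Γ(S, ⊤) Γ(F, W)))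
    (y : ↥(pullback q g)) (hy : pullback.fst q g y ∈ W)
    (hclosed : pullback.snd q g y = IsLocalRing.closedPoint C) :
    ∃ V : (pullback q g).Opens, y ∈ V ∧ Vanish V.ι ((Scheme.Modules.pullback (pullback.fst q g)).map σ) := by
  classical
  letI := sectionModule q F (U := W) (V := ⊤) le_top
  let π := pullback.fst q g
  let χ := pullback.snd q g
  haveI : IsLocallyNoetherian (pullback q g) := LocallyOfFiniteType.isLocallyNoetherian χ
  haveI : IsAffineHom g := isAffineHom_of_isAffine g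
  haveI : IsAffineHom π := MorphismProperty.pullback_fst (P := @IsAffineHom) q g inferInstance
  have hW' : IsAffineOpen (π ⁻¹ᵁ W) := hW.preimage π
  haveI : IsNoetherianRing Γ(pullback q g, π ⁻¹ᵁ W) :=
    IsLocallyNoetherian.component_noetherian ⟨π ⁻¹ᵁ W, hW'⟩
  let F' := (Scheme.Modules.pullback π).obj F
  haveI : F'.IsQuasicoherent := inferInstance
  haveI : Module.Finite Γ(pullback q g, π ⁻¹ᵁ W) Γ(F', π ⁻¹ᵁ W) :=
    Groth.QCohMod.finite_sections F' (Groth.QCohMod.isFT_pullback π F hFft) hW'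
  let ψ : C →+* Γ(pullback q g, π ⁻¹ᵁ W) :=
    ((Scheme.ΓSpecIso (CommRingCat.of C)).inv ≫ χ.appLE ⊤ (π ⁻¹ᵁ W) le_top).hom
  have hψ : ∀ a : Γ(S, ⊤), π.app W (q.appLE ⊤ W le_top a) =
      ψ ((g.appTop ≫ (Scheme.ΓSpecIso (CommRingCat.of C)).hom) a) := by
    intro a
    show (q.appLE ⊤ W le_top ≫ π.app W) a = ((g.appTop ≫ (Scheme.ΓSpecIso (CommRingCat.of C)).hom) ≫
      (Scheme.ΓSpecIso (CommRingCat.of C)).inv ≫ χ.appLE ⊤ (π ⁻¹ᵁ W) le_top) a
    rw [Category.assoc, Iso.hom_inv_id_assoc]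
    congr 2
    simp only [π, χ, Scheme.Hom.app_eq_appLE, Scheme.Hom.appTop, Scheme.Hom.appLE_comp_appLE, pullback.condition]
    exact (Scheme.Hom.appLE_comp_appLE _ _ _ _ _ _ _).symm
  let 𝔪 : Ideal Γ(pullback q g, π ⁻¹ᵁ W) := (maximalIdeal C).map ψ
  have hmem : ∀ k, pullSec π F (σ.app W (gens k)) ∈
      (⨅ n : ℕ, 𝔪 ^ n • ⊤ : Submodule Γ(pullback q g, π ⁻¹ᵁ W) Γ(F', π ⁻¹ᵁ W)) := by
    intro k
    refine (Submodule.mem_iInf _).2 fun n => ?_
    refine Submodule.smul_induction_on (hn n k) (fun a ha m _ => ?_) fun u v hu hv => ?_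
    · show pullSec π F (q.appLE ⊤ W le_top a • m) ∈ _
      rw [pullSec_smul, hψ]
      refine Submodule.smul_mem_smul ?_ Submodule.mem_top
      rw [← Ideal.map_pow]
      exact Ideal.mem_map_of_mem ψ (Ideal.Quotient.eq_zero_iff_mem.1 ha)
    · rw [show pullSec π F (u + v) = pullSec π F u + pullSec π F v from map_add _ u v]
      exact add_mem hu hv
  choose r hr using fun k => (Ideal.mem_iInf_smul_pow_eq_bot_iff (I := 𝔪) _).1 (hmem k)
  have := Fintype.ofFinite κ
  let t : Γ(pullback q g, π ⁻¹ᵁ W) := ∏ k, (1 - (r k : Γ(pullback q g, π ⁻¹ᵁ W)))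
  have ht : ∀ k, t • pullSec π F (σ.app W (gens k)) = 0 := by
    intro k
    obtain ⟨d, hd⟩ := Finset.dvd_prod_of_mem (fun k => 1 - (r k : Γ(pullback q g, π ⁻¹ᵁ W))) (Finset.mem_univ k)
    rw [show t = d * (1 - (r k : Γ(pullback q g, π ⁻¹ᵁ W))) from hd.trans (mul_comm _ _), mul_smul, sub_smul, one_smul,
      hr k, sub_self, smul_zero]
  have hyW : y ∈ π ⁻¹ᵁ W := hy
  have h𝔪 : 𝔪 ≤ (hW'.primeIdealOf ⟨y, hyW⟩).asIdeal := by
    refine Ideal.map_le_iff_le_comap.2 fun c hc => ?_
    by_contra hnot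
    have hb := (Groth.QCohMod.mem_basicOpen_iff_notMem_primeIdealOf hW' (ψ c) y hyW).2 hnot
    change y ∈ (pullback q g).basicOpen
      (χ.appLE ⊤ (π ⁻¹ᵁ W) le_top ((Scheme.ΓSpecIso (CommRingCat.of C)).inv c)) at hb
    rw [Scheme.basicOpen_appLE] at hb
    have hb2 : χ y ∈ (Spec (CommRingCat.of C)).basicOpen ((Scheme.ΓSpecIso (CommRingCat.of C)).inv c) := hb.2
    rw [show χ y = IsLocalRing.closedPoint C from hclosed, basicOpen_eq_of_affine] at hb2
    simp only [Iso.inv_hom_id_apply] at hb2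
    exact hb2 hc
  refine ⟨(pullback q g).basicOpen t, (Groth.QCohMod.mem_basicOpen_iff_notMem_primeIdealOf hW' t y hyW).2
    fun htp => ?_, (vanish_ι_iff _ _).2 fun V hV x => ?_⟩
  · obtain ⟨k, -, hk⟩ := Ideal.IsPrime.prod_mem_iff.1 htp
    refine (hW'.primeIdealOf ⟨y, hyW⟩).isPrime.ne_top ((Ideal.eq_top_iff_one _).2 ?_)
    simpa using add_mem hk (h𝔪 (r k).2)
  have hc : ∀ z : V, ∃ V' : (pullback q g).Opens, IsAffineOpen V' ∧ z.1 ∈ V' ∧ V' ≤ V := fun z => by
    obtain ⟨V', hV', hz, hle⟩ := exists_isAffineOpen_mem_and_subset (x := z.1) z.2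
    exact ⟨V', hV', hz, hle⟩
  choose V' hV' hz hle using hc
  refine res_ext V' hle (fun z hzV => Opens.mem_iSup.2 ⟨⟨z, hzV⟩, hz _⟩) fun z => ?_
  rw [res_zero, ← app_res]
  have hVt : V' z ≤ (pullback q g).basicOpen t := (hle z).trans hV
  have eVW : V' z ≤ π ⁻¹ᵁ W := hVt.trans ((pullback q g).basicOpen_le t)
  refine app_eq_zero_of_pullSec π σ hW (hV' z) eVW (fun m => ?_) _
  have hu : IsUnit (Groth.PicAux.resX (pullback q g) eVW t) := by
    have := (RingedSpace.isUnit_res_basicOpen _ t).map (Groth.PicAux.resX (pullback q g) hVt)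
    rw [show Groth.PicAux.resX (pullback q g) eVW t = Groth.PicAux.resX (pullback q g) hVt
      (Groth.PicAux.resX (pullback q g) ((pullback q g).basicOpen_le t) t) from (Groth.PicAux.resX_resX _ _ _).symm]
    exact this
  have hz0 : t • pullSec π F (σ.app W m) = 0 := by
    have hm : m ∈ Submodule.span Γ(Y, W) (Set.range gens) := hgens ▸ Submodule.mem_top
    induction hm using Submodule.span_induction with
    | mem v hv => obtain ⟨k, rfl⟩ := hv; exact ht k
    | zero =>
      rw [map_zero, show pullSec π F (0 : Γ(F, W)) = 0 from map_zero _, smul_zero]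
    | add u v _ _ hu hv =>
      rw [map_add, show pullSec π F (σ.app W u + σ.app W v) = pullSec π F (σ.app W u) + pullSec π F (σ.app W v)
        from map_add _ _ _, smul_add, hu, hv, add_zero]
    | smul c v _ hv => rw [Scheme.Modules.Hom.app_smul, pullSec_smul, smul_comm, hv, smul_zero]
  refine hu.smul_left_cancel.1 ?_
  rw [smul_zero, ← res_smul, hz0, res_zero]

end Fibre

/-- Over an affine Noetherian base the vanishing locus of a homomorphism into a flat module is cut out
by an ideal. -/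
theorem exists_ideal_noetherian [IsAffine S] [IsNoetherianRing Γ(S, ⊤)] (q : Y ⟶ S) [IsProper q]
    (G F : Y.Modules) [G.IsQuasicoherent] [F.IsQuasicoherent] (hG : CohB1.IsFT G) (hFft : CohB1.IsFT F)
    (hF : FlatMod.IsFlatOver q F) (σ : G ⟶ F) :
    ∃ J : Ideal Γ(S, ⊤), ∀ (T : Scheme.{u}) (g : T ⟶ S), IsAffine T →
      (Vanish (pullback.fst q g) σ ↔ J ≤ RingHom.ker g.appTop.hom) := by
  classical
  haveI : CompactSpace Y := QuasiCompact.compactSpace_of_compactSpace q
  choose U hUa hyU using fun y : Y => (exists_isAffineOpen_mem_and_subset (x := y) (Opens.mem_top y)).imp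
    fun _ h => (⟨h.1, h.2.1⟩ : _ ∧ _) |> fun h => h
  obtain ⟨s, hs⟩ := isCompact_univ.elim_finite_subcover (fun y : Y => (U y : Set Y)) (fun y => (U y).2)
    (fun y _ => Set.mem_iUnion.2 ⟨y, hyU y⟩)
  let W : s → Y.Opens := fun j => U j.1
  have hWa : ∀ j, IsAffineOpen (W j) := fun j => hUa j.1
  have hcov : iSup W = ⊤ := by
    refine top_unique fun y _ => ?_
    obtain ⟨z, hz, hyz⟩ := Set.mem_iUnion₂.1 (hs (Set.mem_univ y))
    exact Opens.mem_iSup.2 ⟨⟨z, hz⟩, hyz⟩
  haveI := fun j : s => Groth.QCohMod.finite_sections G hG (hWa j)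
  choose r gens hgens using fun j : s =>
    Submodule.fg_iff_exists_fin_generating_family.1 (Module.Finite.fg_top : (⊤ : Submodule Γ(Y, W j) Γ(G, W j)).FG)
  let ι : Type u := Σ j : s, ULift.{u} (Fin (r j))
  letI := fun j : s => sectionModule q F (U := W j) (V := ⊤) le_top
  letI := fun j : s => (q.appLE ⊤ (W j) le_top).hom.toAlgebra
  haveI : ∀ j : s, IsScalarTower Γ(S, ⊤) Γ(Y, W j) Γ(F, W j) := fun j => .of_algebraMap_smul fun _ _ => rfl
  haveI : ∀ j : s, Algebra.FiniteType Γ(S, ⊤) Γ(Y, W j) := fun j =>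
    q.finiteType_appLE (isAffineOpen_top S) (hWa j) le_top
  haveI : ∀ j : s, Module.Finite Γ(Y, W j) Γ(F, W j) := fun j => Groth.QCohMod.finite_sections F hFft (hWa j)
  haveI : ∀ j : s, Module.Flat Γ(S, ⊤) Γ(F, W j) := fun j =>
    (flat_sections_iff q F (hWa j) (isAffineOpen_top S) le_top).2 fun z _ => hF z
  let x : ∀ i : ι, Γ(F, W i.1) := fun i => σ.app (W i.1) (gens i.1 i.2.down)
  have hiff : ∀ (T : Scheme.{u}) (g : T ⟶ S), IsAffine T → (Vanish (pullback.fst q g) σ ↔
      ∀ i : ι, x i ∈ RingHom.ker g.appTop.hom • (⊤ : Submodule Γ(S, ⊤) Γ(F, W i.1))) := by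
    intro T g _
    rw [vanish_fst_iff q F hF σ W hWa hcov g]
    refine ⟨fun h i => h _ _, fun h j m => ?_⟩
    have hm : m ∈ Submodule.span Γ(Y, W j) (Set.range (gens j)) := hgens j ▸ Submodule.mem_top
    induction hm using Submodule.span_induction with
    | mem v hv => obtain ⟨k, rfl⟩ := hv; exact h ⟨j, ⟨k⟩⟩
    | zero => rw [map_zero]; exact zero_mem _
    | add u v _ _ hu hv => rw [map_add]; exact add_mem hu hv
    | smul c v _ hv => rw [Scheme.Modules.Hom.app_smul]; exact smul_mem_of_mem _ c hv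
  obtain ⟨K, hK⟩ := exists_min_ideal_family (fun i : ι => Γ(F, W i.1)) (fun i : ι => Γ(Y, W i.1)) x
    fun C _ _ _ φ hn => by
    let g : Spec (CommRingCat.of C) ⟶ S := Spec.map (CommRingCat.ofHom φ) ≫ (isAffineOpen_top S).fromSpec
    have hg : (g.appTop ≫ (Scheme.ΓSpecIso (CommRingCat.of C)).hom).hom = φ := by
      have h := Groth.RhoShLib.specMap_fromSpec_appLE (isAffineOpen_top S) (CommRingCat.ofHom φ)
      rw [show g.appTop = CommRingCat.ofHom φ ≫ (Scheme.ΓSpecIso (CommRingCat.of C)).inv from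
        (by simp [Scheme.Hom.appLE, Scheme.Hom.appTop, g] at h ⊢; exact h), Category.assoc, Iso.inv_hom_id,
        Category.comp_id]
      rfl
    have hker := appTop_specMap_fromSpec (CommRingCat.ofHom φ)
    intro i
    have hv : Vanish (pullback.fst q g) σ := by
      let P := pullback q g
      let O : Set P := {z | ∃ V : P.Opens, z ∈ V ∧ Vanish V.ι ((Scheme.Modules.pullback (pullback.fst q g)).map σ)}
      have hO : IsOpen O := isOpen_iff_forall_mem_open.2 fun z ⟨V, hzV, hV⟩ =>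
        ⟨V, fun w hw => ⟨V, hw, hV⟩, V.2, hzV⟩
      have hfib : ∀ y : P, pullback.snd q g y = IsLocalRing.closedPoint C → y ∈ O := by
        intro y hy
        obtain ⟨j, hj⟩ := Opens.mem_iSup.1 (hcov.ge (Opens.mem_top (pullback.fst q g y)))
        exact exists_nhd_vanish hFft σ g (hWa j) (fun k : ULift.{u} (Fin (r j)) => gens j k.down)
          (by rw [← hgens j]; congr 1; exact (Equiv.ulift.surjective.range_comp _))
          (fun n k => by rw [hg]; exact hn n ⟨j, k⟩) y hj hy
      have hall : ∀ z : P, z ∈ O := by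
        by_contra hnot
        push Not at hnot
        obtain ⟨z, hz⟩ := hnot
        have hcl : IsClosed ((pullback.snd q g) '' Oᶜ) := (pullback.snd q g).isClosedMap _ hO.isClosed_compl
        have hcp : IsLocalRing.closedPoint C ∈ (pullback.snd q g) '' Oᶜ :=
          ((IsLocalRing.specializes_closedPoint (pullback.snd q g z)).mem_closed hcl ⟨z, hz, rfl⟩)
        obtain ⟨y, hyO, hy⟩ := hcp
        exact hyO (hfib y hy)
      choose V hzV hV using hall
      exact eq_zero_of_vanish_ι V (top_unique fun z _ => Opens.mem_iSup.2 ⟨z, hzV z⟩) _ hV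
    have := (hiff _ g inferInstance).1 hv i
    rwa [hker] at this
  exact ⟨K, fun T g hT => (hiff T g hT).trans (hK _)⟩

end Groth.VanishLib
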