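import Mathlib
import Groth.Agent.VanishLib.Noetherian
import Groth.Agent.LimitMod.FlatModel
import Groth.Agent.Limits.ProperFibreModel

/-!
# Descent of the vanishing problem to a Noetherian base
-/

set_option autoImplicit false
set_option linter.style.haveILetI false
universe u

open CategoryTheory CategoryTheory.Limits AlgebraicGeometry TopologicalSpace Opposite

noncomputable section

namespace Groth.VanishLib

open Groth.FlatMorOne Groth.LimitMod Groth.SpectralTopology

section Transfer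

variable {Y S S' : Scheme.{u}}

theorem vanish_fst_of_square (q : Y ⟶ S) {G F : Y.Modules} (σ : G ⟶ F) {T P : Scheme.{u}} (g : T ⟶ S)
    {π : P ⟶ Y} {χ : P ⟶ T} (H : IsPullback π χ q g) : Vanish π σ ↔ Vanish (pullback.fst q g) σ := by
  rw [← H.isoPullback_hom_fst]
  exact vanish_iso_comp_iff H.isoPullback.hom _ σ

theorem vanish_stage_hom_iff {A B C P : Scheme.{u}} {G F : A.Modules} (a : B ⟶ A) (πk : C ⟶ A) (πl : C ⟶ B)
    (w : πl ≫ a = πk) (σl : (Scheme.Modules.pullback a).obj G ⟶ (Scheme.Modules.pullback a).obj F)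
    (h : (Scheme.Modules.pullback πk).obj G ⟶ (Scheme.Modules.pullback πk).obj F)
    (hσl : ((cmpIso a πk πl w).app G).inv ≫ (Scheme.Modules.pullback πl).map σl ≫
      ((cmpIso a πk πl w).app F).hom = h) (p : P ⟶ C) :
    Vanish p h ↔ Vanish (p ≫ πl) σl := by
  subst hσl
  exact (vanish_conj_iff ((cmpIso a πk πl w).app G).symm ((cmpIso a πk πl w).app F).symm _ p).trans
    (vanish_map_iff πl p σl)

end Transfer

section Limit

variable {I : Type u} [Category.{u} I] [IsCofiltered I] {D : I ⥤ Scheme.{u}}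
  [∀ (i j : I) (f : i ⟶ j), IsAffineHom (D.map f)] [∀ i, IsAffine (D.obj i)] {c : Cone D} (hc : IsLimit c)

include hc in
/-- A proper flat vanishing problem on a limit comes from a stage. -/
theorem exists_stage_problem {Y : Scheme.{u}} (f : Y ⟶ c.pt) [IsProper f] [LocallyOfFinitePresentation f]
    (G F : Y.Modules) [G.IsQuasicoherent] [F.IsQuasicoherent] (hG : CohB1.IsFP G) (hF : CohB1.IsFP F)
    (hflat : FlatMod.IsFlatOver f F) (σ : G ⟶ F) :
    ∃ (i : I) (N : StageModel f i) (G₀ F₀ : N.obj.Modules) (_ : G₀.IsQuasicoherent) (_ : F₀.IsQuasicoherent)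
      (σ₀ : G₀ ⟶ F₀), IsProper N.hom ∧ CohB1.IsFP G₀ ∧ CohB1.IsFP F₀ ∧ FlatMod.IsFlatOver N.hom F₀ ∧
      ∀ (P : Scheme.{u}) (p : P ⟶ Y), Vanish p σ ↔ Vanish (p ≫ N.map) σ₀ := by
  obtain ⟨i, M, F₀, hqF, hfpF, ⟨eF⟩, hfl⟩ := exists_flat_model hc (f := f) F hF hflat
  -- properness at a later stage
  have hpr : ∃ j : Over i, IsProper (M.pull j.hom).hom := by
    have : CompactSpace c.pt := Scheme.compactSpace_of_isLimit D c hc
    have : QuasiSeparatedSpace c.pt := Groth.Limits.quasiSeparatedSpace_pt D c hc (i := i)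
    have : IsProper (pullback.snd M.hom (c.π.app i)) := by
      rw [← M.sq.isoPullback_inv_snd]; infer_instance
    have : ∀ (a b : Over i) (m : a ⟶ b), IsAffineHom ((Over.forget i ⋙ D).map m) := fun _ _ m =>
      inferInstanceAs (IsAffineHom (D.map m.left))
    have : ∀ a : Over i, CompactSpace ↥((Over.forget i ⋙ D).obj a) := fun a =>
      inferInstanceAs (CompactSpace ↥(D.obj a.left))
    have : ∀ a : Over i, QuasiSeparatedSpace ↥((Over.forget i ⋙ D).obj a) := fun a =>
      inferInstanceAs (QuasiSeparatedSpace ↥(D.obj a.left))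
    obtain ⟨j, hj⟩ := Groth.Limits.exists_isProper_bcTrans
      ((Functor.Initial.isLimitWhiskerEquiv (Over.forget i) c).symm hc) (Groth.Limits.overTrans D i) (c.π.app i)
      (fun j => c.w j.hom) M.hom
    have hjp : IsProper (pullback.snd M.hom (D.map j.hom)) := hj
    refine ⟨j, ?_⟩
    show IsProper (pullback.fst (D.map j.hom) M.hom)
    rw [← pullbackSymmetry_hom_comp_snd]; infer_instance
  obtain ⟨j, hj⟩ := hpr
  let D' := Groth.Limits.pullbackDiagram D i M.hom
  have hC := Groth.Limits.isLimitPullbackCone D i M.hom hc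
  let e := M.sq.flip.isoPullback
  let G' : (Groth.Limits.pullbackCone D i M.hom c).pt.Modules := (Scheme.Modules.pullback e.inv).obj G
  have : G'.IsQuasicoherent := inferInstanceAs ((Scheme.Modules.pullback e.inv).obj G).IsQuasicoherent
  haveI : CompactSpace (D'.obj j) := StageModel.compactSpace_diagram (c := c) (f := f) M j
  haveI : QuasiSeparatedSpace (D'.obj j) := StageModel.quasiSeparatedSpace_diagram (c := c) (f := f) M j
  obtain ⟨k, ψ, G₀, hqG, hfpG, ⟨a⟩⟩ := exists_fp_stage hC j G' (Groth.QCohMod.isFP_pullback _ G hG)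
  haveI : CompactSpace (D'.obj k) := StageModel.compactSpace_diagram (c := c) (f := f) M k
  haveI : QuasiSeparatedSpace (D'.obj k) := StageModel.quasiSeparatedSpace_diagram (c := c) (f := f) M k
  have hmap : (Groth.Limits.pullbackCone D i M.hom c).π.app k ≫ M.proj k.hom = e.inv ≫ M.map := by
    refine (Iso.eq_inv_comp e).2 ((Category.assoc _ _ _).symm.trans ?_)
    exact (congrArg (· ≫ M.proj k.hom) (StageModel.isoPullback_π M k)).trans (StageModel.map_proj M k.hom)
  let Fk : (D'.obj k).Modules := (Scheme.Modules.pullback (M.proj k.hom)).obj F₀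
  haveI : Fk.IsQuasicoherent := inferInstanceAs ((Scheme.Modules.pullback (M.proj k.hom)).obj F₀).IsQuasicoherent
  let bF : (Scheme.Modules.pullback ((Groth.Limits.pullbackCone D i M.hom c).π.app k)).obj Fk ≅
      (Scheme.Modules.pullback e.inv).obj F :=
    (Scheme.Modules.pullbackComp ((Groth.Limits.pullbackCone D i M.hom c).π.app k) (M.proj k.hom) ≪≫
        Scheme.Modules.pullbackCongr hmap ≪≫ (Scheme.Modules.pullbackComp e.inv M.map).symm).app F₀ ≪≫
      (Scheme.Modules.pullback e.inv).mapIso eF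
  obtain ⟨l, φ, σl, hσl⟩ := exists_stage_hom hC (i := k) hfpG (G := Fk)
    (a.hom ≫ (Scheme.Modules.pullback e.inv).map σ ≫ bF.inv)
  haveI : ((Scheme.Modules.pullback (D'.map φ)).obj G₀).IsQuasicoherent := inferInstance
  haveI : ((Scheme.Modules.pullback (D'.map φ)).obj Fk).IsQuasicoherent := inferInstance
  refine ⟨l.left, M.pull l.hom, (Scheme.Modules.pullback (D'.map φ)).obj G₀,
    (Scheme.Modules.pullback (D'.map φ)).obj Fk, inferInstanceAs ((Scheme.Modules.pullback (D'.map φ)).obj G₀).IsQuasicoherent,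
    inferInstanceAs ((Scheme.Modules.pullback (D'.map φ)).obj Fk).IsQuasicoherent, σl, ?_, Groth.QCohMod.isFP_pullback _ G₀ hfpG,
    Groth.QCohMod.isFP_pullback _ Fk (Groth.QCohMod.isFP_pullback _ F₀ hfpF), fun z => ?_, fun P p => ?_⟩
  · exact MorphismProperty.of_isPullback (P := @IsProper)
      (StageModel.isPullback_trans M (φ ≫ ψ).left (Over.w (φ ≫ ψ))) hj
  · have hq : D'.map φ ≫ M.proj k.hom = M.proj l.hom := pullback.lift_snd _ _ _
    have h1 := isFlatOverAt_baseChange (IsPullback.of_hasPullback (D.map l.hom) M.hom).flip F₀ z (hfl _)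
    exact (isFlatOverAt_congr (M.pull l.hom).hom
      ((Scheme.Modules.pullbackComp (D'.map φ) (M.proj k.hom) ≪≫ Scheme.Modules.pullbackCongr hq).app F₀) z).mpr h1
  · have h1 : Vanish p σ ↔ Vanish (p ≫ e.hom) ((Scheme.Modules.pullback e.inv).map σ) := by
      rw [vanish_map_iff, Category.assoc, e.hom_inv_id, Category.comp_id]
    have h2 : Vanish (p ≫ e.hom) (a.hom ≫ (Scheme.Modules.pullback e.inv).map σ ≫ bF.inv) ↔
        Vanish (p ≫ e.hom) ((Scheme.Modules.pullback e.inv).map σ) := vanish_conj_iff a bF _ _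
    refine h1.trans (h2.symm.trans ?_)
    refine (vanish_stage_hom_iff _ _ _ _ σl _ hσl (p ≫ e.hom)).trans ?_
    exact iff_of_eq (congrArg (fun m => Vanish m σl)
      ((Category.assoc _ _ _).trans (congrArg (p ≫ ·) (StageModel.isoPullback_π M l))))

end Limit

/-- The vanishing locus over an affine base of a homomorphism between modules of finite presentation. -/
theorem exists_ideal_spec {A : CommRingCat.{u}} {Y : Scheme.{u}} (f : Y ⟶ Spec A) [IsProper f]
    [LocallyOfFinitePresentation f] (G F : Y.Modules) [G.IsQuasicoherent] [F.IsQuasicoherent]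
    (hG : CohB1.IsFP G) (hF : CohB1.IsFP F) (hflat : FlatMod.IsFlatOver f F) (σ : G ⟶ F) :
    ∃ J : Ideal Γ(Spec A, ⊤), ∀ (T : Scheme.{u}) (g : T ⟶ Spec A), IsAffine T →
      (Vanish (pullback.fst f g) σ ↔ J ≤ RingHom.ker g.appTop.hom) := by
  haveI := isCofiltered_fgSub A
  haveI : ∀ i, IsAffine ((fgSchemes A).obj i) := fun i => inferInstanceAs (IsAffine (Spec _))
  haveI : IsProper (Y := (fgCone A).pt) f := ‹IsProper f›
  haveI : LocallyOfFinitePresentation (Y := (fgCone A).pt) f := ‹LocallyOfFinitePresentation f›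
  obtain ⟨i, N, G₀, F₀, _, _, σ₀, hN, hG₀, hF₀, hfl, hv⟩ :=
    exists_stage_problem (isLimitFgCone A) (f := f) G F hG hF hflat σ
  haveI := hN
  haveI : IsNoetherianRing Γ((fgSchemes A).obj i, ⊤) :=
    IsLocallyNoetherian.component_noetherian ⟨⊤, isAffineOpen_top _⟩
  obtain ⟨J, hJ⟩ := exists_ideal_noetherian N.hom G₀ F₀
    (Groth.PropsBasic.LocFree.isFT_of_isFP G₀ hG₀) (Groth.PropsBasic.LocFree.isFT_of_isFP F₀ hF₀) hfl σ₀
  refine ⟨J.map ((fgCone A).π.app i).appTop.hom, fun T g hT => ?_⟩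
  have H := (IsPullback.of_hasPullback f g).paste_horiz N.sq
  rw [hv _ (pullback.fst f g), vanish_fst_of_square N.hom σ₀ _ H, hJ T _ hT, Scheme.Hom.comp_appTop,
    CommRingCat.hom_comp, ← RingHom.comap_ker, ← Ideal.map_le_iff_le_comap]
  rfl

end Groth.VanishLib
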