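import Mathlib
import Groth.Agent.VanishLib.Descent
import Groth.Agent.S2128
import Groth.Agent.RhoShLib.Represent

/-!
# The vanishing locus of a homomorphism into a flat module
-/

set_option autoImplicit false
set_option linter.style.haveILetI false
universe u

open CategoryTheory CategoryTheory.Limits AlgebraicGeometry TopologicalSpace

noncomputable section

namespace Groth.VanishLib

open Groth.FlatMorOne Groth.LimitMod

variable {Y S : Scheme.{u}} (q : Y ⟶ S) {G F : Y.Modules}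

theorem exists_ideal_fp [IsAffine S] [IsProper q] [LocallyOfFinitePresentation q] [G.IsQuasicoherent]
    [F.IsQuasicoherent] (hG : CohB1.IsFP G) (hF : CohB1.IsFP F) (hflat : FlatMod.IsFlatOver q F) (σ : G ⟶ F) :
    ∃ J : Ideal Γ(S, ⊤), ∀ (T : Scheme.{u}) (g : T ⟶ S), IsAffine T →
      (Vanish (pullback.fst q g) σ ↔ J ≤ RingHom.ker g.appTop.hom) := by
  let e := S.isoSpec.hom
  obtain ⟨J, hJ⟩ := exists_ideal_spec (q ≫ e) G F hG hF (fun z => isFlatOverAt_comp_iso q e z (hflat z)) σ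
  refine ⟨J.map e.appTop.hom, fun T g hT => ?_⟩
  have H : IsPullback (pullback.fst q g) (pullback.snd q g) (q ≫ e) (g ≫ e) := by
    have := (IsPullback.of_hasPullback q g).paste_vert
      (IsPullback.of_vert_isIso (fst := g) (snd := 𝟙 T) (f := e) (g := g ≫ e) ⟨by simp⟩)
    rwa [Category.comp_id] at this
  rw [vanish_fst_of_square (q ≫ e) σ _ H, hJ T _ hT, Scheme.Hom.comp_appTop, CommRingCat.hom_comp,
    ← RingHom.comap_ker, ← Ideal.map_le_iff_le_comap]

theorem exists_ideal_affine [IsAffine S] [IsProper q] [LocallyOfFinitePresentation q] [F.IsQuasicoherent]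
    (hG : Coh.IsQCoh G) (hF : CohB1.IsFP F) (hflat : FlatMod.IsFlatOver q F) (σ : G ⟶ F) :
    ∃ J : Ideal Γ(S, ⊤), ∀ (T : Scheme.{u}) (g : T ⟶ S), IsAffine T →
      (Vanish (pullback.fst q g) σ ↔ J ≤ RingHom.ker g.appTop.hom) := by
  haveI : CompactSpace Y := QuasiCompact.compactSpace_of_compactSpace q
  haveI : QuasiSeparatedSpace Y := quasiSeparatedSpace_of_quasiSeparated q
  obtain ⟨I, _, _, D, c, hc, hfp, rfl⟩ := Groth.Agent.S2128.result Y G hG
  have hq : ∀ i, (D.obj i).IsQuasicoherent := fun i => by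
    haveI : SheafOfModules.IsFinitePresentation (R := Y.ringCatSheaf) (D.obj i) := hfp i
    infer_instance
  choose J hJ using fun i => haveI := hq i; exists_ideal_fp q (hfp i) hF hflat (c.ι.app i ≫ σ)
  refine ⟨⨆ i, J i, fun T g hT => ⟨fun h => iSup_le fun i => (hJ i T g hT).1 ?_, fun h => ?_⟩⟩
  · rw [Vanish, Functor.map_comp, show (Scheme.Modules.pullback (pullback.fst q g)).map σ = 0 from h, comp_zero]
  · refine (isColimitOfPreserves (Scheme.Modules.pullback (pullback.fst q g)) hc).hom_ext fun i => ?_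
    rw [comp_zero]
    exact (Functor.map_comp _ _ _).symm.trans ((hJ i T g hT).2 ((le_iSup J i).trans h))

/-- Vanishing after base change is local on the base. -/
theorem vanish_fst_of_cover (σ : G ⟶ F) {T : Scheme.{u}} (g : T ⟶ S) {κ : Type*} (O : κ → T.Opens)
    (hO : ∀ z : T, ∃ x, z ∈ O x) (h : ∀ x, Vanish (pullback.fst q ((O x).ι ≫ g)) σ) :
    Vanish (pullback.fst q g) σ := by
  refine vanish_of_cover (fun x => pullback.snd q g ⁻¹ᵁ O x)
    (top_unique fun z _ => Opens.mem_iSup.2 (hO (pullback.snd q g z))) _ σ fun x => ?_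
  let j : ((pullback.snd q g ⁻¹ᵁ O x : (pullback q g).Opens) : Scheme.{u}) ⟶ pullback q ((O x).ι ≫ g) :=
    pullback.lift ((pullback.snd q g ⁻¹ᵁ O x).ι ≫ pullback.fst q g) (pullback.snd q g ∣_ O x)
      (by rw [morphismRestrict_ι_assoc, Category.assoc, pullback.condition])
  have := (h x).comp j
  rwa [pullback.lift_fst] at this

theorem Vanish.fst_comp {σ : G ⟶ F} {T T' : Scheme.{u}} {g : T ⟶ S} (h : Vanish (pullback.fst q g) σ) (r : T' ⟶ T) :
    Vanish (pullback.fst q (r ≫ g)) σ := by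
  have := h.comp (pullback.lift (pullback.fst q (r ≫ g)) (pullback.snd q (r ≫ g) ≫ r)
    (by rw [Category.assoc, pullback.condition]) : pullback q (r ≫ g) ⟶ pullback q g)
  rwa [pullback.lift_fst] at this

theorem appLE_of_factor {T : Scheme.{u}} (U : S.Opens) (g : T ⟶ S) (g' : T ⟶ (U : Scheme.{u}))
    (e : g' ≫ U.ι = g) (hg : ⊤ ≤ g ⁻¹ᵁ U) : g.appLE U ⊤ hg = U.topIso.inv ≫ g'.appTop := by
  subst e
  rw [← Scheme.Hom.appLE_comp_appLE g' U.ι U ⊤ ⊤ (fun z _ => z.2) (fun _ _ => trivial), Scheme.Opens.ι_appLE]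
  simp [Scheme.Hom.appLE, Scheme.Hom.appTop, Scheme.Opens.topIso]
  rfl

theorem exists_ideal_open [IsProper q] [LocallyOfFinitePresentation q] [G.IsQuasicoherent] [F.IsQuasicoherent]
    (hF : CohB1.IsFP F) (hflat : FlatMod.IsFlatOver q F) (σ : G ⟶ F) (U : S.affineOpens) :
    ∃ J : Ideal Γ(S, U.1), ∀ (T : Scheme.{u}) (g : T ⟶ S), IsAffine T → ∀ hg : ⊤ ≤ g ⁻¹ᵁ U.1,
      (Vanish (pullback.fst q g) σ ↔ J ≤ RingHom.ker (g.appLE U.1 ⊤ hg).hom) := by
  haveI : IsAffine (U.1 : Scheme.{u}) := U.2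
  let qU := q ∣_ U.1
  haveI : IsProper qU := MorphismProperty.of_isPullback (isPullback_morphismRestrict q U.1).flip ‹IsProper q›
  haveI : LocallyOfFinitePresentation qU :=
    MorphismProperty.of_isPullback (isPullback_morphismRestrict q U.1).flip ‹LocallyOfFinitePresentation q›
  let ιY := (q ⁻¹ᵁ U.1).ι
  haveI : ((Scheme.Modules.pullback ιY).obj F).IsQuasicoherent := inferInstance
  haveI : ((Scheme.Modules.pullback ιY).obj G).IsQuasicoherent := inferInstance
  obtain ⟨J, hJ⟩ := exists_ideal_affine qU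
    (inferInstanceAs ((Scheme.Modules.pullback ιY).obj G).IsQuasicoherent) (Groth.QCohMod.isFP_pullback ιY F hF)
    (fun z => isFlatOverAt_baseChange (isPullback_morphismRestrict q U.1).flip F z (hflat _))
    ((Scheme.Modules.pullback ιY).map σ)
  refine ⟨J.map U.1.topIso.hom.hom, fun T g hT hg => ?_⟩
  have hr : Set.range g.base ⊆ Set.range U.1.ι.base := by
    rintro _ ⟨z, rfl⟩
    rw [Scheme.Opens.range_ι]
    exact hg (x := z) trivial
  let g' := IsOpenImmersion.lift U.1.ι g hr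
  have hg' : g' ≫ U.1.ι = g := IsOpenImmersion.lift_fac _ _ _
  have H : IsPullback (pullback.fst qU g' ≫ ιY) (pullback.snd qU g') q g := by
    have := (IsPullback.of_hasPullback qU g').paste_horiz (isPullback_morphismRestrict q U.1).flip
    rwa [hg'] at this
  have hl := appLE_of_factor U.1 g g' hg' hg
  rw [← vanish_fst_of_square q σ g H, ← vanish_map_iff, hJ T g' hT, Ideal.map_le_iff_le_comap, RingHom.comap_ker,
    hl, ← CommRingCat.hom_comp, Iso.hom_inv_id_assoc]

theorem exists_closed_vanish [IsProper q] [LocallyOfFinitePresentation q] [G.IsQuasicoherent] [F.IsQuasicoherent]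
    (hF : CohB1.IsFP F) (hflat : FlatMod.IsFlatOver q F) (σ : G ⟶ F) :
    ∃ (Z : Scheme.{u}) (i : Z ⟶ S), IsClosedImmersion i ∧ ∀ (T : Scheme.{u}) (g : T ⟶ S),
      ((∃ h : T ⟶ Z, h ≫ i = g) ↔ Vanish (pullback.fst q g) σ) := by
  obtain ⟨Z, i, hi, hrep⟩ : ∃ (Z : Scheme.{u}) (i : Z ⟶ S), IsClosedImmersion i ∧ ∀ (T : Scheme.{u}) (g : T ⟶ S),
      IsAffine T → ((∃ h : T ⟶ Z, h ≫ i = g) ↔ Vanish (pullback.fst q g) σ) :=
    Groth.RhoShLib.exists_closed_representing (fun T g => Vanish (pullback.fst q g) σ)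
      (fun T g _ t ht h => vanish_fst_of_cover q σ g (fun x : T => T.basicOpen (t x)) (fun z => ⟨z, ht z⟩) h)
      (fun T T' g r _ _ h => Vanish.fst_comp q h r) (exists_ideal_open q hF hflat σ)
  refine ⟨Z, i, hi, fun T g => ?_⟩
  haveI := hi
  choose V hV hxV using fun x : T => (exists_isAffineOpen_mem_and_subset (x := x) (Opens.mem_top x)).imp
    fun _ h => (⟨h.1, h.2.1⟩ : _ ∧ _)
  haveI : ∀ x, IsAffine (V x : Scheme.{u}) := fun x => hV x
  constructor
  · rintro ⟨h, rfl⟩
    exact vanish_fst_of_cover q σ _ V (fun z => ⟨z, hxV z⟩) fun x =>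
      (hrep _ _ inferInstance).1 ⟨(V x).ι ≫ h, Category.assoc _ _ _⟩
  · intro hv
    choose h hh using fun x => (hrep _ _ inferInstance).2 (Vanish.fst_comp q hv (V x).ι)
    have hcov : IsOpenCover V := top_unique fun z _ => Opens.mem_iSup.2 ⟨z, hxV z⟩
    let 𝒰 := T.openCoverOfIsOpenCover V hcov
    have hg : ∀ x y : T, pullback.fst (V x).ι (V y).ι ≫ h x = pullback.snd (V x).ι (V y).ι ≫ h y := fun x y => by
      rw [← cancel_mono i, Category.assoc, Category.assoc, hh, hh, ← Category.assoc, ← Category.assoc, pullback.condition]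
    refine ⟨Scheme.Cover.glueMorphisms 𝒰 h hg, Scheme.Cover.hom_ext 𝒰 _ _ fun x => ?_⟩
    rw [← Category.assoc, Scheme.Cover.ι_glueMorphisms]
    exact hh x

end Groth.VanishLib
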